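import Groth.Agent.LocCohZLib.Sheaf
import Groth.Agent.CohTopLib.ThreeTerm
import Groth.Agent.FlasqueAcyclic.Compare
import Groth.Prelude.Def_RDer

/-!
# Local cohomology as derived functors
-/

noncomputable section

universe v v₁ v₂ v₃ u₁ u₂ u₃ w u

open CategoryTheory Limits TopologicalSpace Opposite CategoryTheory.Abelian

namespace Groth.Agent.LocCohZLib

open QCohBase CohTopLib

section General

variable {A : Type u₁} [Category.{v₁} A] [Abelian A] [EnoughInjectives A] {B : Type u₂}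
  [Category.{v₂} B] [Abelian B] [HasInjectiveResolutions B] {D : Type u₃} [Category.{v₃} D] [Abelian D]
  (H : A ⥤ B) [H.Additive] [PreservesFiniteLimits H] [PreservesFiniteColimits H]
  (F : B ⥤ D) [F.Additive] [PreservesFiniteLimits F]

include H F in
/-- Derived functors of a composite with an exact functor. -/
theorem nonempty_comp_rightDerived_iso
    (hI : ∀ (J : A), Injective J → ∀ n : ℕ, IsZero ((F.rightDerived (n + 1)).obj (H.obj J))) (n : ℕ) :
    Nonempty ((H ⋙ F).rightDerived n ≅ H ⋙ F.rightDerived n) := by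
  let T := FlasqueAcyclic.compDelta H F hI
  haveI : (T.F 0).Additive := T.additive 0
  obtain ⟨e⟩ := UnivDelta.nonempty_iso_rightDerived T n
  exact ⟨(e ≪≫ RDer.rightDerivedIso (Φ := T.F 0) (Φ' := H ⋙ F)
    (Functor.isoWhiskerLeft H F.rightDerivedZeroIsoSelf) n).symm⟩

end General

section ExtDelta

variable {A : Type u₁} [Category.{v₁} A] [Abelian A] [EnoughInjectives A]
  {B : Type u₂} [Category.{v} B] [Abelian B] [HasExt.{w} B]
  (H : A ⥤ B) [H.Additive] [PreservesFiniteLimits H] [PreservesFiniteColimits H] (Z : B)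

/-- Ext out of a fixed object as an effaceable delta functor. -/
def extDelta (hI : ∀ (J : A), Injective J → ∀ n : ℕ, Subsingleton (Ext Z (H.obj J) (n + 1))) :
    UnivDelta.DeltaFunctor A AddCommGrpCat.{w} where
  F n := H ⋙ extFunctorObj Z n
  additive _ := inferInstance
  δ {S} hS n := AddCommGrpCat.ofHom ((hS.map_of_exact H).extClass.postcomp Z rfl)
  mono₁ {S} hS := by
    haveI : Mono (H.map S.f) := (hS.map_of_exact H).mono_f
    refine (AddCommGrpCat.mono_iff_injective _).2 fun x y hxy => ?_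
    change x.comp (Ext.mk₀ (H.map S.f)) (add_zero 0) = y.comp (Ext.mk₀ (H.map S.f)) (add_zero 0) at hxy
    obtain ⟨a, rfl⟩ := Ext.addEquiv₀.symm.surjective x
    obtain ⟨b, rfl⟩ := Ext.addEquiv₀.symm.surjective y
    change (Ext.mk₀ a).comp (Ext.mk₀ (H.map S.f)) (add_zero 0) =
      (Ext.mk₀ b).comp (Ext.mk₀ (H.map S.f)) (add_zero 0) at hxy
    rw [Ext.mk₀_comp_mk₀, Ext.mk₀_comp_mk₀] at hxy
    exact congrArg _ ((cancel_mono (H.map S.f)).1 ((Ext.addEquiv₀ (X := Z)).symm.injective hxy))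
  exact₂ {S} hS n w := Ext.covariant_sequence_exact₂' Z (hS.map_of_exact H) n
  map_g_δ {S} hS n := by
    ext x
    change (x.comp (Ext.mk₀ (H.map S.g)) (add_zero n)).comp (hS.map_of_exact H).extClass rfl = 0
    rw [Ext.comp_assoc_of_second_deg_zero]
    erw [(hS.map_of_exact H).comp_extClass]
    exact Ext.comp_zero x _ _ _ _
  exact₃ {S} hS n := Ext.covariant_sequence_exact₃' Z (hS.map_of_exact H) n (n + 1) rfl
  δ_map_f {S} hS n := by
    ext x
    change (x.comp (hS.map_of_exact H).extClass rfl).comp (Ext.mk₀ (H.map S.f)) (add_zero (n + 1)) = 0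
    rw [Ext.comp_assoc_of_third_deg_zero]
    erw [(hS.map_of_exact H).extClass_comp]
    exact Ext.comp_zero x _ _ _ _
  exact₁ {S} hS n := Ext.covariant_sequence_exact₁' Z (hS.map_of_exact H) n (n + 1) rfl
  δ_nat {S S'} hS hS' φ n := by
    ext x
    change (x.comp (Ext.mk₀ (H.map φ.τ₃)) (add_zero n)).comp (hS'.map_of_exact H).extClass rfl =
      (x.comp (hS.map_of_exact H).extClass rfl).comp (Ext.mk₀ (H.map φ.τ₁)) (add_zero (n + 1))
    rw [Ext.comp_assoc_of_second_deg_zero, Ext.comp_assoc_of_third_deg_zero]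
    exact congrArg (fun e => x.comp e rfl) (ShortComplex.ShortExact.extClass_naturality
      (hS.map_of_exact H) (hS'.map_of_exact H) (H.mapShortComplex.map φ)).symm
  isZero J hJ n := @AddCommGrpCat.isZero_of_subsingleton _ (hI J hJ n)

/-- Effaceable Ext functors are the derived functors of their degree zero part. -/
theorem nonempty_extFunctorObj_iso (hI : ∀ (J : A), Injective J → ∀ n : ℕ, Subsingleton (Ext Z (H.obj J) (n + 1)))
    (K : A ⥤ AddCommGrpCat.{w}) [K.Additive] (e : H ⋙ extFunctorObj Z 0 ≅ K) (n : ℕ) :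
    Nonempty (H ⋙ extFunctorObj Z n ≅ K.rightDerived n) := by
  let T := extDelta H Z hI
  haveI : (T.F 0).Additive := T.additive 0
  obtain ⟨f⟩ := UnivDelta.nonempty_iso_rightDerived T n
  exact ⟨f ≪≫ RDer.rightDerivedIso (Φ := T.F 0) (Φ' := K) e n⟩

end ExtDelta

section Space

variable {X : TopCat.{u}} (U : Opens X)

lemma eta_app_surjective (F : CohTop.Ab X) [TopCat.Sheaf.IsFlasque F] (W : Opens X) :
    Function.Surjective (((eta U).app F).hom.app (op W)) := by
  intro t
  obtain ⟨a, ha⟩ := (eta_app_bijective U F (inf_le_right : W ⊓ U ≤ U)).2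
    (QCohBase.res ((GF U).obj F).obj inf_le_left t)
  obtain ⟨b, hb⟩ := (AddCommGrpCat.epi_iff_surjective _).1
    (TopCat.Presheaf.IsFlasque.epi (F := F.obj) (homOfLE (inf_le_left : W ⊓ U ≤ W)).op) a
  refine ⟨b, (GF_res_bijective U F W).1 ?_⟩
  refine (nat_res F.obj ((eta U).app F).hom inf_le_left b).trans ?_
  exact (congrArg _ hb).trans ha

lemma isZero_Rpush_pull_of_injective (J : CohTop.Ab X) (hJ : Injective J) (n : ℕ) :
    IsZero ((CohTop.Rpush (CohCx.incl U) (n + 1)).obj ((CohTop.pull (CohCx.incl U)).obj J)) := by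
  haveI := FlasqueAcyclic.isFlasque_of_injective J
  haveI : TopCat.Sheaf.IsFlasque ((CohTop.pull (CohCx.incl U)).obj J) :=
    isFlasque_of_iso ((pullIsoRestr U).app J).symm (isFlasque_restr U J)
  exact FlasqueAcyclic.isZero_rightDerived_push_of_isFlasque (CohCx.incl U) _ n

lemma isZero_Rpush_restr_of_injective (J : CohTop.Ab X) (hJ : Injective J) (n : ℕ) :
    IsZero ((CohTop.Rpush (CohCx.incl U) (n + 1)).obj (CohTop.restr J U)) := by
  haveI := FlasqueAcyclic.isFlasque_of_injective J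
  haveI := isFlasque_restr U J
  exact FlasqueAcyclic.isZero_rightDerived_push_of_isFlasque (CohCx.incl U) _ n

lemma additive_push_incl : (CohTop.push (CohCx.incl U)).Additive :=
  haveI := preservesFiniteLimits_push (CohCx.incl U)
  Functor.additive_of_preserves_binary_products _

theorem nonempty_HZsh_isos :
    Nonempty (LocCohZ.HZsh U 1 ≅ cokernel (eta U)) ∧
      ∀ n : ℕ, Nonempty (LocCohZ.HZsh U (n + 2) ≅
        CohTop.pull (CohCx.incl U) ⋙ CohTop.Rpush (CohCx.incl U) (n + 1)) := by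
  haveI := preservesFiniteLimits_pull (CohCx.incl U)
  haveI := preservesFiniteColimits_pull (CohCx.incl U)
  haveI := preservesFiniteLimits_push (CohCx.incl U)
  haveI : PreservesFiniteLimits (GF U) := comp_preservesFiniteLimits _ _
  haveI : (CohTop.pull (CohCx.incl U)).Additive :=
    Functor.additive_of_preserves_binary_products _
  haveI := additive_push_incl U
  haveI : (GF U).Additive := Functor.additive_of_preserves_binary_products _
  have hex : ∀ J : CohTop.Ab X, Injective J →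
      (ThreeTerm.seqAt (iota U) (eta U) (iota_eta U) J).ShortExact := fun J hJ =>
    { exact := ShortComplex.exact_of_f_is_kernel _ (kernelIsKernel _)
      mono_f := inferInstanceAs (Mono (kernel.ι _))
      epi_g := by
        haveI := FlasqueAcyclic.isFlasque_of_injective J
        refine (CategoryTheory.Sheaf.isLocallySurjective_iff_epi' (φ := (eta U).app J)).1 ?_
        refine (TopCat.Presheaf.isLocallySurjective_iff ((eta U).app J).hom).2 fun V s y hy => ?_
        exact ⟨V, le_rfl, ⟨(eta_app_surjective U J V s).choose,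
          (eta_app_surjective U J V s).choose_spec.trans (res_refl _ _ s).symm⟩, hy⟩ }
  refine ⟨ThreeTerm.nonempty_one_iso_cokernel (iota U) (eta U) (iota_eta U) hex, fun n => ?_⟩
  obtain ⟨a⟩ := ThreeTerm.nonempty_succ_iso (iota U) (eta U) (iota_eta U) hex n
  obtain ⟨b⟩ := nonempty_comp_rightDerived_iso (CohTop.pull (CohCx.incl U)) (CohTop.push (CohCx.incl U))
    (isZero_Rpush_pull_of_injective U) (n + 1)
  exact ⟨a ≪≫ b⟩

theorem nonempty_RpushOn_iso (q : ℕ) :
    Nonempty (CohCx.RpushOn (𝟙 X) U q ≅ CohTop.restrFunctor U ⋙ CohTop.Rpush (CohCx.incl U) q) := by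
  haveI := preservesFiniteLimits_restr U
  haveI := preservesFiniteColimits_restr U
  haveI := preservesFiniteLimits_push (CohCx.incl U)
  haveI := additive_push_incl U
  exact nonempty_comp_rightDerived_iso (CohTop.restrFunctor U) (CohTop.push (CohCx.incl U))
    (isZero_Rpush_restr_of_injective U) q

lemma sect0Equiv_map {W V : Opens X} (h : W ≤ V) {F G : CohTop.Ab X} (φ : F ⟶ G)
    (x : LocCohZ.HZ F 0 h) :
    (LocCohZ.sect0Equiv G h (LocCohZ.map φ 0 h x)).1 =
      φ.hom.app (op V) (LocCohZ.sect0Equiv F h x).1 := by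
  obtain ⟨a, rfl⟩ := Ext.addEquiv₀.symm.surjective x
  change CohFree.evalGen (Opens.grothendieckTopology X) V G (cokernel.π _ ≫
    Ext.addEquiv₀ ((Ext.mk₀ a).comp (Ext.mk₀ φ) (add_zero 0))) = φ.hom.app (op V)
      (CohFree.evalGen (Opens.grothendieckTopology X) V F (cokernel.π _ ≫ Ext.addEquiv₀ (Ext.mk₀ a)))
  rw [Ext.mk₀_comp_mk₀]
  erw [Ext.addEquiv₀.apply_symm_apply, Ext.addEquiv₀.apply_symm_apply]
  rfl

lemma res_top_eq_zero_iff (F : CohTop.Ab X) (s : F.obj.obj (op ⊤)) :
    QCohBase.res F.obj (inf_le_left : (⊤ : Opens X) ⊓ U ≤ ⊤) s = 0 ↔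
      QCohBase.res F.obj (le_top : U ≤ ⊤) s = 0 := by
  constructor
  · intro h
    rw [← res_res F.obj (inf_le_left : (⊤ : Opens X) ⊓ U ≤ ⊤) (le_inf le_top le_rfl) s, h, map_zero]
  · intro h
    rw [← res_res F.obj (le_top : U ≤ ⊤) inf_le_right s, h, map_zero]

/-- Global sections of the sheaf of sections with support. -/
def gammaSectEquiv (F : CohTop.Ab X) :
    (CohCx.sectSupp U F).obj.obj (op ⊤) ≃+ LocCohZ.sectZ F (le_top : U ≤ ⊤) :=
  AddEquiv.ofBijective (AddMonoidHom.codRestrict (sSupp U F ⊤) (LocCohZ.sectZ F (le_top : U ≤ ⊤))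
      fun t => (res_top_eq_zero_iff U F _).1 (res_sSupp U F t))
    ⟨fun _ _ hab => sSupp_injective U F ⊤ (congrArg Subtype.val hab), fun s => by
      obtain ⟨t, ht⟩ := (exists_sSupp_iff U F s.1).2 ((res_top_eq_zero_iff U F _).2 s.2)
      exact ⟨t, Subtype.ext ht⟩⟩

theorem nonempty_RHZ_iso (q : ℕ) :
    Nonempty (LocCohZ.RHZ U q ≅ ToposFin.HZFunctor (LocCohZ.openSh U) q) := by
  have hI : ∀ (J : CohTop.Ab X), Injective J → ∀ n : ℕ,
      Subsingleton (Ext (ToposFin.quotZ (LocCohZ.openSh U)) ((𝟭 (CohTop.Ab X)).obj J) (n + 1)) :=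
    fun J hJ n => Ext.subsingleton_of_injective (I := J) _ n
  have e0 : (𝟭 (CohTop.Ab X)) ⋙ extFunctorObj (ToposFin.quotZ (LocCohZ.openSh U)) 0 ≅ LocCohZ.gammaZF U :=
    NatIso.ofComponents (fun F =>
      AddEquiv.toAddCommGrpIso ((((LocCohZ.HZcEquivHZFunctor F 0 U).symm.trans
        (LocCohZ.sect0Equiv F (le_top : U ≤ ⊤))).trans (gammaSectEquiv U F).symm)))
      (fun {F G} φ => by
        refine AddCommGrpCat.ext fun x => ?_
        apply (gammaSectEquiv U G).injective
        refine ((gammaSectEquiv U G).apply_symm_apply _).trans ?_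
        refine Subtype.ext ?_
        refine Eq.trans ?_ (sSupp_nat U φ ⊤ _).symm
        refine Eq.trans ?_ (congrArg (φ.hom.app (op ⊤))
          (congrArg Subtype.val ((gammaSectEquiv U F).apply_symm_apply _)).symm)
        refine Eq.trans ?_ (sect0Equiv_map (le_top : U ≤ ⊤) φ ((LocCohZ.HZcEquivHZFunctor F 0 U).symm x))
        refine congrArg (fun y => (LocCohZ.sect0Equiv G (le_top : U ≤ ⊤) y).1) ?_
        exact (Ext.comp_assoc_of_third_deg_zero (Ext.mk₀ (LocCohZ.zqIsoQuotZ U).hom) x (Ext.mk₀ φ) (zero_add 0)).symm)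
  obtain ⟨e⟩ := nonempty_extFunctorObj_iso (𝟭 (CohTop.Ab X)) (ToposFin.quotZ (LocCohZ.openSh U)) hI
    (LocCohZ.gammaZF U) e0 q
  exact ⟨e.symm ≪≫ Functor.leftUnitor _⟩

lemma image_top_restr (V : Opens X) : V.isOpenEmbedding.isOpenMap.functor.obj ⊤ = V :=
  Opens.ext (Set.image_univ.trans Subtype.range_coe)

lemma image_preimage_restr {W V : Opens X} (h : W ≤ V) :
    V.isOpenEmbedding.isOpenMap.functor.obj ((Opens.map (CohCx.incl V)).obj W) = W :=
  Opens.ext (Set.image_preimage_eq_of_subset fun x hx => ⟨⟨x, h hx⟩, rfl⟩)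

lemma mem_sectZ_restr_iff {W V : Opens X} (h : W ≤ V) (F : CohTop.Ab X)
    (s : F.obj.obj (op (V.isOpenEmbedding.isOpenMap.functor.obj ⊤))) :
    secCongr F (image_top_restr V) s ∈ LocCohZ.sectZ F h ↔
      s ∈ LocCohZ.sectZ (CohTop.restr F V) (le_top : (Opens.map (CohCx.incl V)).obj W ≤ ⊤) := by
  have e1 : secCongr F (image_preimage_restr h) (QCohBase.res F.obj
      (V.isOpenEmbedding.isOpenMap.functor.map
        (homOfLE (le_top : (Opens.map (CohCx.incl V)).obj W ≤ ⊤))).le s) =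
      QCohBase.res F.obj h (secCongr F (image_top_restr V) s) :=
    (res_res F.obj _ _ s).trans (res_res F.obj _ _ s).symm
  exact (Iff.of_eq (congrArg (· = 0) e1.symm)).trans
    (map_eq_zero_iff _ (secCongr F (image_preimage_restr h)).injective)

/-- Sections with support on the open subspace. -/
def restrSectEquiv {W V : Opens X} (h : W ≤ V) (F : CohTop.Ab X) :
    LocCohZ.sectZ (CohTop.restr F V) (le_top : (Opens.map (CohCx.incl V)).obj W ≤ ⊤) ≃+
      LocCohZ.sectZ F h where
  toFun s := ⟨secCongr F (image_top_restr V) s.1, (mem_sectZ_restr_iff h F s.1).2 s.2⟩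
  invFun s := ⟨(secCongr F (image_top_restr V)).symm s.1, (mem_sectZ_restr_iff h F _).1
    (((secCongr F (image_top_restr V)).apply_symm_apply s.1).symm ▸ s.2)⟩
  left_inv s := Subtype.ext ((secCongr F (image_top_restr V)).symm_apply_apply s.1)
  right_inv s := Subtype.ext ((secCongr F (image_top_restr V)).apply_symm_apply s.1)
  map_add' a b := Subtype.ext (map_add (secCongr F (image_top_restr V)) a.1 b.1)

/-- The comparison in degree zero. -/
def restrEquivZero {W V : Opens X} (h : W ≤ V) (F : CohTop.Ab X) :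
    LocCohZ.HZc (CohTop.restr F V) 0 ((Opens.map (CohCx.incl V)).obj W) ≃+ LocCohZ.HZ F 0 h :=
  ((LocCohZ.sect0Equiv (CohTop.restr F V) le_top).trans (restrSectEquiv h F)).trans
    (LocCohZ.sect0Equiv F h).symm

lemma restrEquivZero_spec {W V : Opens X} (h : W ≤ V) (F : CohTop.Ab X)
    (x : LocCohZ.HZc (CohTop.restr F V) 0 ((Opens.map (CohCx.incl V)).obj W)) :
    (LocCohZ.sect0Equiv F h (restrEquivZero h F x)).1 =
      secCongr F (image_top_restr V) (LocCohZ.sect0Equiv (CohTop.restr F V) le_top x).1 :=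
  congrArg Subtype.val ((LocCohZ.sect0Equiv F h).apply_symm_apply _)

lemma restrEquivZero_nat {W V : Opens X} (h : W ≤ V) {F G : CohTop.Ab X} (φ : F ⟶ G)
    (x : LocCohZ.HZc (CohTop.restr F V) 0 ((Opens.map (CohCx.incl V)).obj W)) :
    restrEquivZero h G (LocCohZ.map ((CohTop.restrFunctor V).map φ) 0 le_top x) =
      LocCohZ.map φ 0 h (restrEquivZero h F x) := by
  apply (LocCohZ.sect0Equiv G h).injective
  refine Subtype.ext ?_
  refine (restrEquivZero_spec h G _).trans (Eq.trans ?_ (sect0Equiv_map h φ _).symm)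
  refine Eq.trans ?_ (congrArg (φ.hom.app (op V)) (restrEquivZero_spec h F x)).symm
  refine (congrArg (secCongr G (image_top_restr V)) (sect0Equiv_map le_top
    ((CohTop.restrFunctor V).map φ) x)).trans ?_
  exact (secCongr_nat φ (image_top_restr V) _).symm

/-- The degree zero natural isomorphism. -/
def restrIsoZero {W V : Opens X} (h : W ≤ V) :
    CohTop.restrFunctor V ⋙ extFunctorObj
        (LocCohZ.zq (le_top : (Opens.map (CohCx.incl V)).obj W ≤ ⊤)) 0 ≅
      𝟭 (CohTop.Ab X) ⋙ extFunctorObj (LocCohZ.zq h) 0 :=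
  NatIso.ofComponents (fun F => AddEquiv.toAddCommGrpIso (restrEquivZero h F))
    (fun {_ _} φ => AddCommGrpCat.ext fun x => restrEquivZero_nat h φ x)

lemma subsingleton_restr_HZ {W V : Opens X} (J : CohTop.Ab X) (hJ : Injective J) (n : ℕ) :
    Subsingleton (Ext (LocCohZ.zq (le_top : (Opens.map (CohCx.incl V)).obj W ≤ ⊤))
      ((CohTop.restrFunctor V).obj J) (n + 1)) :=
  haveI := FlasqueAcyclic.isFlasque_of_injective J
  haveI := isFlasque_restr V J
  subsingleton_HZ_of_isFlasque (le_top : (Opens.map (CohCx.incl V)).obj W ≤ ⊤) (CohTop.restr J V) n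

theorem nonempty_HZ_restr_iso {W V : Opens X} (h : W ≤ V) (i : ℕ) :
    Nonempty (𝟭 (CohTop.Ab X) ⋙ extFunctorObj (LocCohZ.zq h) i ≅
      CohTop.restrFunctor V ⋙ extFunctorObj
        (LocCohZ.zq (le_top : (Opens.map (CohCx.incl V)).obj W ≤ ⊤)) i) := by
  haveI := preservesFiniteLimits_restr V
  haveI := preservesFiniteColimits_restr V
  let K : CohTop.Ab X ⥤ AddCommGrpCat.{u} := 𝟭 (CohTop.Ab X) ⋙ extFunctorObj (LocCohZ.zq h) 0
  haveI : K.Additive := inferInstanceAs ((𝟭 (CohTop.Ab X) ⋙ extFunctorObj (LocCohZ.zq h) 0).Additive)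
  obtain ⟨a⟩ := nonempty_extFunctorObj_iso (𝟭 (CohTop.Ab X)) (LocCohZ.zq h)
    (fun J hJ n => Ext.subsingleton_of_injective (I := J) _ n) K (Iso.refl _) i
  obtain ⟨b⟩ := nonempty_extFunctorObj_iso (CohTop.restrFunctor V) _
    (fun J hJ n => subsingleton_restr_HZ J hJ n) K (restrIsoZero h) i
  exact ⟨a ≪≫ b.symm⟩

/-- The component. -/
def hzRestrEquiv {W V : Opens X} {i : ℕ} (h : W ≤ V) (c : 𝟭 (CohTop.Ab X) ⋙ extFunctorObj (LocCohZ.zq h) i ≅
      CohTop.restrFunctor V ⋙ extFunctorObj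
        (LocCohZ.zq (le_top : (Opens.map (CohCx.incl V)).obj W ≤ ⊤)) i) (F : CohTop.Ab X) :
    LocCohZ.HZ F i h ≃+ LocCohZ.HZc (CohTop.restr F V) i ((Opens.map (CohCx.incl V)).obj W) :=
  (c.app F).addCommGroupIsoToAddEquiv

lemma hzRestrEquiv_nat {W V : Opens X} {i : ℕ} (h : W ≤ V) (c : 𝟭 (CohTop.Ab X) ⋙ extFunctorObj (LocCohZ.zq h) i ≅
      CohTop.restrFunctor V ⋙ extFunctorObj
        (LocCohZ.zq (le_top : (Opens.map (CohCx.incl V)).obj W ≤ ⊤)) i) (F G : CohTop.Ab X) (φ : F ⟶ G)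
    (x : LocCohZ.HZ F i h) :
    hzRestrEquiv h c G (LocCohZ.map φ i h x) =
      LocCohZ.map ((CohTop.restrFunctor V).map φ) i
        (le_top : (Opens.map (CohCx.incl V)).obj W ≤ ⊤) (hzRestrEquiv h c F x) := by
  have h1 := ConcreteCategory.congr_hom (c.hom.naturality φ) x
  rw [ConcreteCategory.comp_apply, ConcreteCategory.comp_apply] at h1
  exact h1

theorem exists_HZ_restr {W V : Opens X} (h : W ≤ V) (i : ℕ) :
    ∃ e : ∀ F : CohTop.Ab X,
        LocCohZ.HZ F i h ≃+ LocCohZ.HZc (CohTop.restr F V) i ((Opens.map (CohCx.incl V)).obj W),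
      ∀ (F G : CohTop.Ab X) (φ : F ⟶ G) (x : LocCohZ.HZ F i h),
        e G (LocCohZ.map φ i h x) =
          LocCohZ.map ((CohTop.restrFunctor V).map φ) i
            (le_top : (Opens.map (CohCx.incl V)).obj W ≤ ⊤) (e F x) :=
  (nonempty_HZ_restr_iso h i).elim fun c =>
    ⟨fun F => hzRestrEquiv h c F, fun F G φ x => hzRestrEquiv_nat h c F G φ x⟩

end Space

end Groth.Agent.LocCohZLib
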