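import Groth.Agent.LocCohZLib.Sect
import Groth.Agent.CohTopLib.Closed

/-!
# Sections with support as a right adjoint
-/

noncomputable section

universe u

open CategoryTheory Limits TopologicalSpace Opposite

namespace Groth.Agent.LocCohZLib

open QCohBase CohTopLib

variable {X : TopCat.{u}} (U : Opens X)

lemma isClosedEmbedding_inclCompl : Topology.IsClosedEmbedding (CohCx.inclCompl U) :=
  U.2.isClosed_compl.isClosedEmbedding_subtypeVal

lemma mem_range_inclCompl {x : X} : x ∈ Set.range (CohCx.inclCompl U) ↔ x ∉ U :=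
  ⟨fun ⟨y, hy⟩ => hy ▸ y.2, fun hx => ⟨⟨x, hx⟩, rfl⟩⟩

lemma push_compl_comp_eta (G : CohTop.Ab (TopCat.of ((U : Set X)ᶜ : Set X))) {F : CohTop.Ab X}
    (φ : (CohTop.push (CohCx.inclCompl U)).obj G ⟶ F) : φ ≫ (eta U).app F = 0 := by
  refine CategoryTheory.Sheaf.hom_ext (NatTrans.ext (funext fun W => AddCommGrpCat.ext fun s => ?_))
  refine (eta_app_eq_zero_iff U F (W := W.unop) (φ.hom.app W s)).2 ?_
  refine (nat_res ((CohTop.push (CohCx.inclCompl U)).obj G).obj φ.hom inf_le_left s).trans ?_
  haveI : Subsingleton (((CohTop.push (CohCx.inclCompl U)).obj G).obj.obj (op (W.unop ⊓ U))) :=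
    subsingleton_sections_bot G fun z hz => z.2 hz.2
  rw [Subsingleton.elim (QCohBase.res ((CohTop.push (CohCx.inclCompl U)).obj G).obj
    (inf_le_left : W.unop ⊓ U ≤ W.unop) s) 0]
  exact map_zero _

lemma isIso_unit_sectSupp (F : CohTop.Ab X) :
    IsIso ((TopCat.Sheaf.pullbackPushforwardAdjunction AddCommGrpCat.{u} (CohCx.inclCompl U)).unit.app
      ((LocCohZ.sectSuppF U).obj F)) := by
  have hZ := isClosedEmbedding_inclCompl U
  let adj := TopCat.Sheaf.pullbackPushforwardAdjunction AddCommGrpCat.{u} (CohCx.inclCompl U)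
  have h : (CohTop.push (CohCx.inclCompl U)).essImage ((LocCohZ.sectSuppF U).obj F) := by
    refine (essImage_push_closed hZ _).2 fun y hy => ?_
    have hyU : y ∈ U := not_not.1 fun h' => hy ((mem_range_inclCompl U).2 h')
    refine @AddCommGrpCat.isZero_of_subsingleton _ (subsingleton_of_forall_eq 0 fun a => ?_)
    obtain ⟨V, hV, t, rfl⟩ := TopCat.Presheaf.exists_germ_eq _ a
    have ht : QCohBase.res (CohCx.sectSupp U F).obj (inf_le_left : V ⊓ U ≤ V) t = 0 :=
      sSupp_injective U F _ ((sSupp_res U F _ t).trans ((res_sSupp U F t).trans (map_zero _).symm))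
    refine (TopCat.Presheaf.germ_res_apply _ (homOfLE (inf_le_left : V ⊓ U ≤ V)) y ⟨hV, hyU⟩ t).symm.trans ?_
    exact (congrArg _ ht).trans (map_zero _)
  obtain ⟨G, ⟨e⟩⟩ := h
  haveI := isIso_counit hZ
  haveI hm : IsIso ((CohTop.push (CohCx.inclCompl U)).map (adj.counit.app G)) := by
    exact @Functor.map_isIso _ _ _ _ _ _ (CohTop.push (CohCx.inclCompl U)) _
      (@NatIso.isIso_app_of_isIso _ _ _ _ _ _ _ (isIso_counit hZ) G)
  have h2 : IsIso (adj.unit.app ((CohTop.push (CohCx.inclCompl U)).obj G)) :=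
    @IsIso.of_isIso_fac_right _ _ _ _ _ _ _ _ hm (IsIso.id _) (adj.right_triangle_components G)
  exact (NatTrans.isIso_app_iff_of_iso adj.unit e).1 h2

/-- The candidate for the inverse of the adjunction bijection. -/
def adjInv (G : CohTop.Ab (TopCat.of ((U : Set X)ᶜ : Set X))) (F : CohTop.Ab X)
    (ψ : G ⟶ (LocCohZ.sectSuppF U ⋙ CohTop.pull (CohCx.inclCompl U)).obj F) :
    (CohTop.push (CohCx.inclCompl U)).obj G ⟶ F :=
  (CohTop.push (CohCx.inclCompl U)).map ψ ≫
    @inv _ _ _ _ ((TopCat.Sheaf.pullbackPushforwardAdjunction AddCommGrpCat.{u} (CohCx.inclCompl U)).unit.app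
      ((LocCohZ.sectSuppF U).obj F)) (isIso_unit_sectSupp U F) ≫ (iota U).app F

lemma adjInv_bijective (G : CohTop.Ab (TopCat.of ((U : Set X)ᶜ : Set X))) (F : CohTop.Ab X) :
    Function.Bijective (adjInv U G F) := by
  haveI := isIso_unit_sectSupp U F
  obtain ⟨hfull, hfaith⟩ := push_closed_full_faithful (isClosedEmbedding_inclCompl U)
  haveI := hfull
  haveI := hfaith
  haveI : Mono ((iota U).app F) := inferInstanceAs (Mono (kernel.ι _))
  constructor
  · intro a b h
    refine (CohTop.push (CohCx.inclCompl U)).map_injective ?_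
    exact (cancel_mono _).1 h
  · intro φ
    let η := (TopCat.Sheaf.pullbackPushforwardAdjunction AddCommGrpCat.{u} (CohCx.inclCompl U)).unit.app
      ((LocCohZ.sectSuppF U).obj F)
    haveI : IsIso η := isIso_unit_sectSupp U F
    refine ⟨(CohTop.push (CohCx.inclCompl U)).preimage
      (kernel.lift _ φ (push_compl_comp_eta U G φ) ≫ η), ?_⟩
    change (CohTop.push (CohCx.inclCompl U)).map ((CohTop.push (CohCx.inclCompl U)).preimage _) ≫
      @inv _ _ _ _ η (isIso_unit_sectSupp U F) ≫ _ = φ
    rw [Functor.map_preimage, Category.assoc]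
    erw [@IsIso.hom_inv_id_assoc _ _ _ _ η (isIso_unit_sectSupp U F)]
    exact kernel.lift_ι _ _ _

lemma adjInv_left {G' G : CohTop.Ab (TopCat.of ((U : Set X)ᶜ : Set X))} {F : CohTop.Ab X} (f : G' ⟶ G)
    (g : G ⟶ (LocCohZ.sectSuppF U ⋙ CohTop.pull (CohCx.inclCompl U)).obj F) :
    adjInv U G' F (f ≫ g) = (CohTop.push (CohCx.inclCompl U)).map f ≫ adjInv U G F g := by
  simp only [adjInv]
  rw [Functor.map_comp, Category.assoc]

lemma adjInv_right {G : CohTop.Ab (TopCat.of ((U : Set X)ᶜ : Set X))} {F F' : CohTop.Ab X}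
    (ψ : G ⟶ (LocCohZ.sectSuppF U ⋙ CohTop.pull (CohCx.inclCompl U)).obj F) (g : F ⟶ F') :
    adjInv U G F' (ψ ≫ (LocCohZ.sectSuppF U ⋙ CohTop.pull (CohCx.inclCompl U)).map g) =
      adjInv U G F ψ ≫ g := by
  haveI := isIso_unit_sectSupp U F
  haveI := isIso_unit_sectSupp U F'
  simp only [adjInv]
  rw [Functor.map_comp, Category.assoc, Category.assoc, Category.assoc]
  refine congrArg (_ ≫ ·) ?_
  erw [← (iota U).naturality g]
  rw [← Category.assoc, ← Category.assoc]
  refine congrArg (· ≫ _) ?_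
  rw [IsIso.eq_inv_comp, ← Category.assoc, IsIso.comp_inv_eq]
  exact ((TopCat.Sheaf.pullbackPushforwardAdjunction AddCommGrpCat.{u} (CohCx.inclCompl U)).unit.naturality
    ((LocCohZ.sectSuppF U).map g)).symm

/-- Extension by zero from the closed complement is left adjoint to sections with support. -/
def pushSuppAdj :
    CohTop.push (CohCx.inclCompl U) ⊣ LocCohZ.sectSuppF U ⋙ CohTop.pull (CohCx.inclCompl U) :=
  Adjunction.mkOfHomEquiv
    { homEquiv := fun G F => (Equiv.ofBijective _ (adjInv_bijective U G F)).symm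
      homEquiv_naturality_left_symm := fun f g => adjInv_left U f g
      homEquiv_naturality_right := fun {G F F'} f g => by
        apply (Equiv.ofBijective _ (adjInv_bijective U G F')).injective
        refine ((Equiv.ofBijective _ (adjInv_bijective U G F')).apply_symm_apply _).trans ?_
        refine Eq.trans ?_ (adjInv_right U _ g).symm
        exact congrArg (· ≫ g) ((Equiv.ofBijective _ (adjInv_bijective U G F)).apply_symm_apply f).symm }

theorem injective_HZ (I : CohTop.Ab X) [Injective I] : Injective (CohCx.HZ U I) := by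
  haveI := preservesFiniteLimits_push (CohCx.inclCompl U)
  haveI : (CohTop.push (CohCx.inclCompl U)).PreservesMonomorphisms :=
    @CategoryTheory.preservesMonomorphisms_of_preservesLimitsOfShape _ _ _ _
      (CohTop.push (CohCx.inclCompl U)) (PreservesFiniteLimits.preservesFiniteLimits _)
  exact @Injective.injective_of_adjoint _ _ _ _ (CohTop.push (CohCx.inclCompl U))
    (LocCohZ.sectSuppF U ⋙ CohTop.pull (CohCx.inclCompl U)) (by assumption) (pushSuppAdj U) I _

end Groth.Agent.LocCohZLib
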