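import Groth.Agent.LocCohZLib.Sect

/-!
# The long exact sequence of cohomology with supports
-/

noncomputable section

universe u

open CategoryTheory Limits TopologicalSpace Opposite CategoryTheory.Abelian

namespace Groth.Agent.LocCohZLib

open QCohBase CohTopLib

variable {X : TopCat.{u}} {W V : Opens X} (h : W ≤ V)

lemma res_toHU (F : CohTop.Ab X) (i : ℕ) (y : LocCohZ.HZ F i h) :
    CohTop.res F i h (LocCohZ.toHU F i h y) = 0 :=
  (ShortComplex.ab_exact_iff_function_exact _).1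
    (Ext.contravariant_sequence_exact₂' (LocCohZ.zqSeq_shortExact h) F i) |>.apply_apply_eq_zero y

lemma delta_res (F : CohTop.Ab X) (i : ℕ) (x : CohTop.HU F i V) :
    LocCohZ.delta F i h (CohTop.res F i h x) = 0 :=
  (ShortComplex.ab_exact_iff_function_exact _).1
    (Ext.contravariant_sequence_exact₁' (LocCohZ.zqSeq_shortExact h) F i (i + 1) (by omega)) |>.apply_apply_eq_zero x

lemma exists_toHU_eq (F : CohTop.Ab X) (i : ℕ) (x : CohTop.HU F i V) (hx : CohTop.res F i h x = 0) :
    ∃ y, LocCohZ.toHU F i h y = x :=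
  Ext.contravariant_sequence_exact₂ (LocCohZ.zqSeq_shortExact h) F x hx

lemma exists_delta_eq (F : CohTop.Ab X) (i : ℕ) (y : LocCohZ.HZ F (i + 1) h)
    (hy : LocCohZ.toHU F (i + 1) h y = 0) : ∃ w, LocCohZ.delta F i h w = y :=
  Ext.contravariant_sequence_exact₃ (LocCohZ.zqSeq_shortExact h) F y hy (by omega)

lemma exists_res_eq (F : CohTop.Ab X) (i : ℕ) (w : CohTop.HU F i W)
    (hw : LocCohZ.delta F i h w = 0) : ∃ x, CohTop.res F i h x = w :=
  Ext.contravariant_sequence_exact₁ (LocCohZ.zqSeq_shortExact h) F w (by omega) hw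

lemma toHU_injective_of_surjective (F : CohTop.Ab X) (i : ℕ)
    (hs : Function.Surjective (CohTop.res F i h)) :
    Function.Injective (LocCohZ.toHU F (i + 1) h) := by
  refine (injective_iff_map_eq_zero _).2 fun y hy => ?_
  obtain ⟨w, rfl⟩ := exists_delta_eq h F i y hy
  obtain ⟨x, rfl⟩ := hs w
  exact delta_res h F i x

lemma subsingleton_HZ_zero_iff (F : CohTop.Ab X) :
    Subsingleton (LocCohZ.HZ F 0 h) ↔ Function.Injective (QCohBase.res F.obj h) := by
  rw [(LocCohZ.sect0Equiv F h).toEquiv.subsingleton_congr]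
  constructor
  · intro hs
    exact (injective_iff_map_eq_zero _).2 fun s hs' =>
      congrArg Subtype.val (Subsingleton.elim (α := LocCohZ.sectZ F h) ⟨s, hs'⟩ 0)
  · intro hi
    exact ⟨fun a b => Subtype.ext (hi ((AddMonoidHom.mem_ker.1 a.2).trans (AddMonoidHom.mem_ker.1 b.2).symm))⟩

lemma res_zero_injective_iff (F : CohTop.Ab X) :
    Function.Injective (CohTop.res F 0 h) ↔ Function.Injective (QCohBase.res F.obj h) := by
  have e : (fun x => hu0 F W (CohTop.res F 0 h x)) = fun x => QCohBase.res F.obj h (hu0 F V x) :=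
    funext (hu0_res h)
  constructor
  · intro hi a b hab
    obtain ⟨a, rfl⟩ := (hu0 F V).surjective a
    obtain ⟨b, rfl⟩ := (hu0 F V).surjective b
    exact congrArg _ (hi ((hu0 F W).injective (((congrFun e a).trans hab).trans (congrFun e b).symm)))
  · intro hi a b hab
    exact (hu0 F V).injective (hi (((congrFun e a).symm.trans (congrArg _ hab)).trans (congrFun e b)))

lemma res_zero_surjective_iff (F : CohTop.Ab X) :
    Function.Surjective (CohTop.res F 0 h) ↔ Function.Surjective (QCohBase.res F.obj h) := by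
  constructor
  · intro hs a
    obtain ⟨x, hx⟩ := hs ((hu0 F W).symm a)
    exact ⟨hu0 F V x, (hu0_res h x).symm.trans ((congrArg _ hx).trans ((hu0 F W).apply_symm_apply a))⟩
  · intro hs a
    obtain ⟨s, hs'⟩ := hs (hu0 F W a)
    refine ⟨(hu0 F V).symm s, (hu0 F W).injective ?_⟩
    exact (hu0_res h _).trans ((congrArg _ ((hu0 F V).apply_symm_apply s)).trans hs')

lemma subsingleton_HZ_iff (F : CohTop.Ab X) (i : ℕ) :
    Subsingleton (LocCohZ.HZ F (i + 1) h) ↔
      Function.Surjective (CohTop.res F i h) ∧ Function.Injective (CohTop.res F (i + 1) h) := by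
  constructor
  · intro hs
    refine ⟨fun w => exists_res_eq h F i w (hs.elim _ _), (injective_iff_map_eq_zero _).2 fun x hx => ?_⟩
    obtain ⟨y, rfl⟩ := exists_toHU_eq h F (i + 1) x hx
    rw [hs.elim y 0, map_zero]
  · rintro ⟨h1, h2⟩
    refine subsingleton_of_forall_eq 0 fun y => toHU_injective_of_surjective h F i h1 ?_
    rw [map_zero]
    exact h2 ((res_toHU h F (i + 1) y).trans (map_zero _).symm)

theorem subsingleton_HZ_of_isFlasque (F : CohTop.Ab X) [TopCat.Sheaf.IsFlasque F] (i : ℕ) :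
    Subsingleton (LocCohZ.HZ F (i + 1) h) := by
  refine (subsingleton_HZ_iff h F i).2 ⟨?_, fun a b _ =>
    @Subsingleton.elim _ (subsingleton_HU_of_isFlasque F V i) a b⟩
  cases i with
  | zero =>
    exact (res_zero_surjective_iff h F).2
      ((AddCommGrpCat.epi_iff_surjective _).1 (TopCat.Presheaf.IsFlasque.epi (F := F.obj) (homOfLE h).op))
  | succ n =>
    intro w
    exact ⟨0, @Subsingleton.elim _ (subsingleton_HU_of_isFlasque F W n) _ _⟩

lemma toHU_resZ {W' V' : Opens X} (h' : W' ≤ V') (hW : W' ≤ W) (hV : V' ≤ V) (F : CohTop.Ab X)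
    (i : ℕ) (y : LocCohZ.HZ F i h) :
    LocCohZ.toHU F i h' (LocCohZ.resZ F i h h' hW hV y) = CohTop.res F i hV (LocCohZ.toHU F i h y) := by
  refine (Ext.mk₀_comp_mk₀_assoc _ _ _).trans (Eq.trans ?_ (Ext.mk₀_comp_mk₀_assoc _ _ _).symm)
  exact congrArg (fun m => (Ext.mk₀ m).comp y (zero_add i)) (cokernel.π_desc _ _ _)

section Shift

variable {T : ShortComplex (CohTop.Ab X)} (hT : T.ShortExact)

/-- The connecting map in the coefficient sheaf. -/
def hzDelta (i : ℕ) : LocCohZ.HZ T.X₃ i h →+ LocCohZ.HZ T.X₁ (i + 1) h :=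
  hT.extClass.postcomp (LocCohZ.zq h) rfl

lemma hzDelta_resZ {W' V' : Opens X} (h' : W' ≤ V') (hW : W' ≤ W) (hV : V' ≤ V) (i : ℕ)
    (y : LocCohZ.HZ T.X₃ i h) :
    hzDelta h' hT i (LocCohZ.resZ T.X₃ i h h' hW hV y) =
      LocCohZ.resZ T.X₁ (i + 1) h h' hW hV (hzDelta h hT i y) :=
  Ext.comp_assoc _ _ _ (zero_add i) rfl (by omega)

lemma hzDelta_bijective (hZ : ∀ i, Subsingleton (LocCohZ.HZ T.X₂ i h)) (i : ℕ) :
    Function.Bijective (hzDelta h hT i) := by
  constructor
  · refine (injective_iff_map_eq_zero _).2 fun x hx => ?_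
    obtain ⟨x₂, rfl⟩ := Ext.covariant_sequence_exact₃ (LocCohZ.zq h) hT x rfl hx
    rw [(hZ i).elim x₂ 0, Ext.zero_comp]
  · exact fun y => Ext.covariant_sequence_exact₁ (LocCohZ.zq h) hT y ((hZ (i + 1)).elim _ 0 ▸
      (by rw [(hZ (i + 1)).elim (y.comp (Ext.mk₀ T.f) (add_zero _)) 0])) rfl

end Shift

end Groth.Agent.LocCohZLib
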