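import Groth.Prelude.Def_LocCohZ
import Groth.Agent.CohTopLib.Functors
import Mathlib.CategoryTheory.Monad.Adjunction

/-!
# Sections of the sheaf of sections with support
-/

noncomputable section

universe u

open CategoryTheory Limits TopologicalSpace Opposite

namespace Groth.Agent.LocCohZLib

open QCohBase CohTopLib

variable {X : TopCat.{u}} (U : Opens X)

/-- The functor `F ↦ j_* j⁻¹ F`. -/
abbrev GF : CohTop.Ab X ⥤ CohTop.Ab X :=
  CohTop.pull (CohCx.incl U) ⋙ CohTop.push (CohCx.incl U)

/-- The unit `F ⟶ j_* j⁻¹ F`. -/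
abbrev eta : 𝟭 (CohTop.Ab X) ⟶ GF U :=
  (TopCat.Sheaf.pullbackPushforwardAdjunction AddCommGrpCat.{u} (CohCx.incl U)).unit

lemma preimage_image_incl (V : Opens (TopCat.of U)) :
    (Opens.map (CohCx.incl U)).obj (U.isOpenEmbedding.isOpenMap.functor.obj V) = V :=
  Opens.ext (Set.preimage_image_eq _ Subtype.val_injective)

/-- Direct image along an open inclusion followed by restriction is the identity. -/
def pushRestrIso :
    CohTop.push (CohCx.incl U) ⋙ CohTop.restrFunctor U ≅ 𝟭 (CohTop.Ab (TopCat.of U)) :=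
  NatIso.ofComponents (fun G =>
    (fullyFaithfulSheafToPresheaf _ _).preimageIso
      (NatIso.ofComponents (fun W => G.obj.mapIso (eqToIso (congrArg op (preimage_image_incl U W.unop))))
        (fun {W W'} g => by
          dsimp only [Functor.comp_obj]
          refine Eq.trans (G.obj.map_comp _ _).symm (Eq.trans ?_ (G.obj.map_comp _ _))
          rfl)))
    (fun {F G} φ => CategoryTheory.Sheaf.hom_ext (NatTrans.ext (funext fun W => by
      exact (φ.hom.naturality _).symm)))

lemma isIso_counit_incl :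
    IsIso (TopCat.Sheaf.pullbackPushforwardAdjunction AddCommGrpCat.{u} (CohCx.incl U)).counit :=
  @Adjunction.isIso_counit_of_iso _ _ _ _ (CohTop.pull (CohCx.incl U)) (CohTop.push (CohCx.incl U))
    (TopCat.Sheaf.pullbackPushforwardAdjunction AddCommGrpCat.{u} (CohCx.incl U))
    (Functor.isoWhiskerLeft (CohTop.push (CohCx.incl U)) (pullIsoRestr U) ≪≫ pushRestrIso U)

lemma isIso_restr_eta (F : CohTop.Ab X) : IsIso ((CohTop.restrFunctor U).map ((eta U).app F)) := by
  let adj := TopCat.Sheaf.pullbackPushforwardAdjunction AddCommGrpCat.{u} (CohCx.incl U)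
  have h1 : (CohTop.pull (CohCx.incl U)).map ((eta U).app F) ≫ adj.counit.app _ = 𝟙 _ :=
    adj.left_triangle_components F
  haveI : IsIso ((CohTop.pull (CohCx.incl U)).map ((eta U).app F)) :=
    @IsIso.of_isIso_fac_right _ _ _ _ _ _ _ _
      (@NatIso.isIso_app_of_isIso _ _ _ _ _ _ _ (isIso_counit_incl U) _) inferInstance h1
  exact (NatIso.isIso_map_iff (pullIsoRestr U) ((eta U).app F)).1 this

lemma eta_app_bijective (F : CohTop.Ab X) {W : Opens X} (hW : W ≤ U) :
    Function.Bijective (((eta U).app F).hom.app (op W)) := by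
  have hW' : U.isOpenEmbedding.isOpenMap.functor.obj ((Opens.map (CohCx.incl U)).obj W) = W :=
    Opens.ext (Set.image_preimage_eq_of_subset fun x hx => ⟨⟨x, hW hx⟩, rfl⟩)
  haveI := isIso_restr_eta U F
  have h : Function.Bijective (((eta U).app F).hom.app
      (op (U.isOpenEmbedding.isOpenMap.functor.obj ((Opens.map (CohCx.incl U)).obj W)))) :=
    ConcreteCategory.bijective_of_isIso
      ((((sheafToPresheaf _ _).map ((CohTop.restrFunctor U).map ((eta U).app F)))).app
        (op ((Opens.map (CohCx.incl U)).obj W)))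
  generalize U.isOpenEmbedding.isOpenMap.functor.obj ((Opens.map (CohCx.incl U)).obj W) = W' at hW' h
  subst hW'
  exact h

lemma GF_res_bijective (F : CohTop.Ab X) (W : Opens X) :
    Function.Bijective (QCohBase.res ((GF U).obj F).obj (inf_le_left : W ⊓ U ≤ W)) := by
  refine (secCongr ((CohTop.pull (CohCx.incl U)).obj F) (?_ : (Opens.map (CohCx.incl U)).obj W =
    (Opens.map (CohCx.incl U)).obj (W ⊓ U))).bijective
  exact Opens.ext (Set.ext fun x => ⟨fun hx => ⟨hx, x.2⟩, fun hx => hx.1⟩)

lemma eta_app_eq_zero_iff (F : CohTop.Ab X) {W : Opens X} (s : F.obj.obj (op W)) :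
    ((eta U).app F).hom.app (op W) s = 0 ↔
      QCohBase.res F.obj (inf_le_left : W ⊓ U ≤ W) s = 0 := by
  have h := nat_res F.obj ((eta U).app F).hom (inf_le_left : W ⊓ U ≤ W) s
  constructor
  · intro hs
    refine (eta_app_bijective U F inf_le_right).1 ((h.symm.trans ?_).trans (map_zero _).symm)
    exact (congrArg _ hs).trans (map_zero _)
  · intro hs
    refine (GF_res_bijective U F W).1 ((h.trans ?_).trans (map_zero _).symm)
    exact (congrArg _ hs).trans (map_zero _)

/-- The inclusion of the subsheaf of sections with support. -/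
def iota : LocCohZ.sectSuppF U ⟶ 𝟭 (CohTop.Ab X) where
  app _ := kernel.ι _
  naturality _ _ _ := kernel.lift_ι _ _ _

lemma iota_eta : iota U ≫ eta U = 0 := NatTrans.ext (funext fun _ => kernel.condition _)

/-- Sections of the subsheaf as sections of the sheaf. -/
def sSupp (F : CohTop.Ab X) (W : Opens X) :
    (CohCx.sectSupp U F).obj.obj (op W) →+ F.obj.obj (op W) :=
  (((iota U).app F).hom.app (op W)).hom

lemma sSupp_nat {F G : CohTop.Ab X} (φ : F ⟶ G) (W : Opens X)
    (t : (CohCx.sectSupp U F).obj.obj (op W)) :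
    sSupp U G W (((LocCohZ.sectSuppF U).map φ).hom.app (op W) t) = φ.hom.app (op W) (sSupp U F W t) :=
  ConcreteCategory.congr_hom (congrArg (fun m : (LocCohZ.sectSuppF U).obj F ⟶ G => m.hom.app (op W))
    ((iota U).naturality φ)) t

lemma sSupp_res (F : CohTop.Ab X) {W W' : Opens X} (h : W' ≤ W)
    (t : (CohCx.sectSupp U F).obj.obj (op W)) :
    sSupp U F W' (QCohBase.res (CohCx.sectSupp U F).obj h t) = QCohBase.res F.obj h (sSupp U F W t) :=
  (nat_res (CohCx.sectSupp U F).obj ((iota U).app F).hom h t).symm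

/-- The sequence `0 → Γ_Z F → F → j_* j⁻¹ F`. -/
abbrev suppSC (F : CohTop.Ab X) : ShortComplex (CohTop.Ab X) :=
  ShortComplex.mk ((iota U).app F) ((eta U).app F) (kernel.condition _)

lemma sections_exact (F : CohTop.Ab X) (W : Opens X) :
    Function.Injective (sSupp U F W) ∧ ∀ s, ((eta U).app F).hom.app (op W) s = 0 →
      ∃ t, sSupp U F W t = s := by
  let E : CohTop.Ab X ⥤ AddCommGrpCat.{u} :=
    sheafToPresheaf (Opens.grothendieckTopology X) AddCommGrpCat.{u} ⋙
      (evaluation _ AddCommGrpCat.{u}).obj (op W)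
  haveI : Mono (suppSC U F).f := inferInstanceAs (Mono (kernel.ι _))
  haveI : E.PreservesZeroMorphisms := inferInstance
  have hex : (suppSC U F).Exact := ShortComplex.exact_of_f_is_kernel _ (kernelIsKernel _)
  have hlf := ((ShortComplex.exact_and_mono_f_iff_f_is_kernel ((suppSC U F).map E)).2
    ⟨KernelFork.mapIsLimit _ (kernelIsKernel ((eta U).app F)) E⟩)
  exact ⟨(AddCommGrpCat.mono_iff_injective _).1 hlf.2, (ShortComplex.ab_exact_iff _).1 hlf.1⟩

lemma sSupp_injective (F : CohTop.Ab X) (W : Opens X) : Function.Injective (sSupp U F W) :=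
  (sections_exact U F W).1

lemma exists_sSupp_iff (F : CohTop.Ab X) {W : Opens X} (s : F.obj.obj (op W)) :
    (∃ t, sSupp U F W t = s) ↔ QCohBase.res F.obj (inf_le_left : W ⊓ U ≤ W) s = 0 := by
  refine ⟨?_, fun h => (sections_exact U F W).2 s ((eta_app_eq_zero_iff U F s).2 h)⟩
  rintro ⟨t, rfl⟩
  refine (eta_app_eq_zero_iff U F _).1 ?_
  exact ConcreteCategory.congr_hom (congrArg (fun m : (LocCohZ.sectSuppF U).obj F ⟶ (GF U).obj F =>
    m.hom.app (op W)) (NatTrans.congr_app (iota_eta U) F)) t

lemma res_sSupp (F : CohTop.Ab X) {W : Opens X} (t : (CohCx.sectSupp U F).obj.obj (op W)) :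
    QCohBase.res F.obj (inf_le_left : W ⊓ U ≤ W) (sSupp U F W t) = 0 :=
  (exists_sSupp_iff U F _).1 ⟨t, rfl⟩

lemma isZero_sectSupp_iff (F : CohTop.Ab X) :
    IsZero (CohCx.sectSupp U F) ↔
      ∀ W : Opens X, Function.Injective (QCohBase.res F.obj (inf_le_left : W ⊓ U ≤ W)) := by
  constructor
  · intro h W
    refine (injective_iff_map_eq_zero _).2 fun s hs => ?_
    obtain ⟨t, rfl⟩ := (exists_sSupp_iff U F s).2 hs
    have hsub : Subsingleton ((CohCx.sectSupp U F).obj.obj (op W)) :=
      AddCommGrpCat.subsingleton_of_isZero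
        (((sheafToPresheaf _ _).map_isZero h).obj (op W))
    rw [hsub.elim t 0, map_zero]
  · intro h
    refine (IsZero.iff_id_eq_zero _).2 (CategoryTheory.Sheaf.hom_ext (NatTrans.ext (funext fun W => ?_)))
    refine AddCommGrpCat.ext fun t => sSupp_injective U F W.unop (h W.unop ?_)
    exact (res_sSupp U F _).trans (res_sSupp U F _).symm

instance preservesFiniteLimits_sectSuppF : PreservesFiniteLimits (LocCohZ.sectSuppF U) := by
  rw [Functor.preservesFiniteLimits_iff_forall_exact_map_and_mono]
  intro S hS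
  haveI := hS.mono_f
  haveI : PreservesFiniteLimits (GF U) :=
    haveI := preservesFiniteLimits_pull (CohCx.incl U)
    haveI := preservesFiniteLimits_push (CohCx.incl U)
    comp_preservesFiniteLimits _ _
  haveI : Mono ((GF U).map S.f) := inferInstance
  haveI hmono : Mono ((LocCohZ.sectSuppF U).map S.f) := by
    refine ⟨fun a b h => ?_⟩
    refine (cancel_mono (kernel.ι _)).1 ((cancel_mono S.f).1 ?_)
    have := congrArg (· ≫ (iota U).app S.X₂) h
    simp only [Category.assoc] at this
    erw [(iota U).naturality S.f] at this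
    simp only [Category.assoc]
    exact this
  haveI : Mono (S.map (LocCohZ.sectSuppF U)).f := hmono
  refine ⟨ShortComplex.exact_of_f_is_kernel _ (KernelFork.IsLimit.ofι' _ _ fun {A} k hk => ?_), hmono⟩
  have hk' : (k ≫ (iota U).app S.X₂) ≫ S.g = 0 := by
    refine (Category.assoc _ _ _).trans ?_
    refine (congrArg (k ≫ ·) ((iota U).naturality S.g).symm).trans ?_
    exact (Category.assoc _ _ _).symm.trans ((congrArg (· ≫ _) hk).trans zero_comp)
  refine ⟨kernel.lift _ (hS.exact.lift _ hk') ?_, ?_⟩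
  · refine (cancel_mono ((GF U).map S.f)).1 ?_
    refine (Category.assoc _ _ _).trans ?_
    refine (congrArg (_ ≫ ·) ((eta U).naturality S.f).symm).trans ?_
    refine (Category.assoc _ _ _).symm.trans ?_
    refine (congrArg (· ≫ _) (hS.exact.lift_f _ hk')).trans ?_
    refine (Category.assoc _ _ _).trans ?_
    exact ((congrArg (k ≫ ·) (kernel.condition _)).trans comp_zero).trans zero_comp.symm
  · refine (cancel_mono (kernel.ι _)).1 ?_
    refine (Category.assoc _ _ _).trans ?_
    refine (congrArg (_ ≫ ·) ((iota U).naturality S.f)).trans ?_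
    refine (Category.assoc _ _ _).symm.trans ?_
    exact (congrArg (· ≫ S.f) (kernel.lift_ι _ _ _)).trans (hS.exact.lift_f _ hk')

end Groth.Agent.LocCohZLib
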