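import Groth.Agent.LocCohZLib.Ext
import Groth.Agent.CohTopLib.Closed
import Groth.Agent.RDerLES.LES
import Groth.Agent.QCohBase.Derived

/-!
# Local cohomology sheaves versus cohomology with supports over opens
-/

noncomputable section

universe u

open CategoryTheory Limits TopologicalSpace Opposite CategoryTheory.Abelian

namespace Groth.Agent.LocCohZLib

open QCohBase CohTopLib

variable {X : TopCat.{u}} (U : Opens X)

lemma isFlasque_of_iso {A B : CohTop.Ab X} (e : A ≅ B) (hA : TopCat.Sheaf.IsFlasque A) :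
    TopCat.Sheaf.IsFlasque B := by
  refine ⟨fun {V W} i => (AddCommGrpCat.epi_iff_surjective _).2 fun t => ?_⟩
  haveI := hA
  obtain ⟨s, hs⟩ := (AddCommGrpCat.epi_iff_surjective _).1
    (TopCat.Presheaf.IsFlasque.epi (F := A.obj) i) (e.inv.hom.app W t)
  refine ⟨e.hom.hom.app V s, ?_⟩
  refine (ConcreteCategory.congr_hom (e.hom.hom.naturality i) s).symm.trans ?_
  refine (congrArg (e.hom.hom.app W) hs).trans ?_
  exact ConcreteCategory.congr_hom (congrArg (fun m : B ⟶ B => m.hom.app W) e.inv_hom_id) t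

lemma sectSupp_map_surjective {T : ShortComplex (CohTop.Ab X)} (hT : T.ShortExact)
    [TopCat.Sheaf.IsFlasque T.X₁] (W : Opens X) :
    Function.Surjective (((LocCohZ.sectSuppF U).map T.g).hom.app (op W)) := by
  intro t
  obtain ⟨s, hs⟩ := FlasqueAcyclic.sections_surjective_of_isFlasque hT W (sSupp U T.X₃ W t)
  let E : CohTop.Ab X ⥤ AddCommGrpCat.{u} :=
    sheafToPresheaf (Opens.grothendieckTopology X) AddCommGrpCat.{u} ⋙
      (evaluation _ AddCommGrpCat.{u}).obj (op (W ⊓ U))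
  haveI := hT.mono_f
  have hex := (ShortComplex.exact_and_mono_f_iff_f_is_kernel (T.map E)).2
    ⟨KernelFork.mapIsLimit _ hT.fIsKernel E⟩
  obtain ⟨a, ha⟩ := (ShortComplex.ab_exact_iff _).1 hex.1
    (QCohBase.res T.X₂.obj (inf_le_left : W ⊓ U ≤ W) s) (by
      refine (nat_res T.X₂.obj T.g.hom inf_le_left s).symm.trans ?_
      exact (congrArg _ hs).trans (res_sSupp U T.X₃ t))
  obtain ⟨b, hb⟩ := (AddCommGrpCat.epi_iff_surjective _).1
    (TopCat.Presheaf.IsFlasque.epi (F := T.X₁.obj) (homOfLE (inf_le_left : W ⊓ U ≤ W)).op) a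
  obtain ⟨t', ht'⟩ := (exists_sSupp_iff U T.X₂ (s - T.f.hom.app (op W) b)).2 (by
    refine (map_sub _ _ _).trans (sub_eq_zero.2 ?_)
    refine ha.symm.trans (Eq.trans ?_ (nat_res T.X₁.obj T.f.hom inf_le_left b).symm)
    exact congrArg _ hb.symm)
  refine ⟨t', sSupp_injective U T.X₃ W ?_⟩
  refine (sSupp_nat U T.g W t').trans ?_
  refine (congrArg _ ht').trans ?_
  refine (map_sub _ _ _).trans ?_
  rw [hs]
  refine sub_eq_self.2 ?_
  exact ConcreteCategory.congr_hom (congrArg (fun m : T.X₁ ⟶ T.X₃ => m.hom.app (op W)) T.zero) b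

lemma epi_sectSupp_map {T : ShortComplex (CohTop.Ab X)} (hT : T.ShortExact)
    [TopCat.Sheaf.IsFlasque T.X₁] : Epi ((LocCohZ.sectSuppF U).map T.g) := by
  refine (CategoryTheory.Sheaf.isLocallySurjective_iff_epi' (φ := (LocCohZ.sectSuppF U).map T.g)).1 ?_
  refine (TopCat.Presheaf.isLocallySurjective_iff ((LocCohZ.sectSuppF U).map T.g).hom).2
    fun V s y hy => ?_
  exact ⟨V, le_rfl, ⟨(sectSupp_map_surjective U hT V s).choose,
    (sectSupp_map_surjective U hT V s).choose_spec.trans (res_refl _ _ s).symm⟩, hy⟩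

theorem isZero_HZsh_of_isFlasque (F : CohTop.Ab X) [TopCat.Sheaf.IsFlasque F] (i : ℕ) :
    IsZero ((LocCohZ.HZsh U (i + 1)).obj F) :=
  isZero_rightDerived_obj_of_class (LocCohZ.sectSuppF U) (fun A => TopCat.Sheaf.IsFlasque A)
    (fun e hA => isFlasque_of_iso e hA)
    (fun hT h1 h2 => by haveI := h1; haveI := h2; exact FlasqueAcyclic.isFlasque_cokernel hT)
    (fun hT h1 => by haveI := h1; exact epi_sectSupp_map U hT) inferInstance i

lemma isZero_HZsh_zero_iff (F : CohTop.Ab X) :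
    IsZero ((LocCohZ.HZsh U 0).obj F) ↔ IsZero (CohCx.sectSupp U F) :=
  ((LocCohZ.sectSuppF U).rightDerivedZeroIsoSelf.app F).isZero_iff

lemma isZero_sectSupp_iff_HZ (F : CohTop.Ab X) :
    IsZero (CohCx.sectSupp U F) ↔
      ∀ W : Opens X, Subsingleton (LocCohZ.HZ F 0 (inf_le_left : W ⊓ U ≤ W)) :=
  (isZero_sectSupp_iff U F).trans (forall_congr' fun _ => (subsingleton_HZ_zero_iff _ F).symm)

lemma exists_shift (F : CohTop.Ab X) (h0 : IsZero (CohCx.sectSupp U F)) :
    ∃ (J Q : CohTop.Ab X) (f : F ⟶ J) (g : J ⟶ Q) (w : f ≫ g = 0),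
      (ShortComplex.mk f g w).ShortExact ∧
      (∀ (i : ℕ) (W : Opens X), Subsingleton (LocCohZ.HZ J i (inf_le_left : W ⊓ U ≤ W))) ∧
      ∀ i : ℕ, IsZero ((LocCohZ.HZsh U i).obj J) := by
  haveI : Mono ((eta U).app F) := Preadditive.mono_of_kernel_zero (h0.eq_of_src _ _)
  let I := Injective.under ((CohTop.pull (CohCx.incl U)).obj F)
  let J := (CohTop.push (CohCx.incl U)).obj I
  haveI := preservesFiniteLimits_push (CohCx.incl U)
  haveI : Mono ((CohTop.push (CohCx.incl U)).map (Injective.ι ((CohTop.pull (CohCx.incl U)).obj F))) :=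
    inferInstance
  let f : F ⟶ J := (eta U).app F ≫ (CohTop.push (CohCx.incl U)).map (Injective.ι _)
  haveI : Mono f := mono_comp _ _
  haveI hJ : Injective J := injective_push (CohCx.incl U) I
  haveI := FlasqueAcyclic.isFlasque_of_injective J
  have hres : ∀ W : Opens X, Function.Injective (QCohBase.res J.obj (inf_le_left : W ⊓ U ≤ W)) :=
    fun W => (sections_bijective_of_preimage_eq (f := CohCx.incl U) I inf_le_left
      (Opens.ext (Set.ext fun x => ⟨fun hx => hx.1, fun hx => ⟨hx, x.2⟩⟩))).1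
  refine ⟨J, cokernel f, f, cokernel.π f, cokernel.condition f,
    ⟨ShortComplex.exact_of_g_is_cokernel _ (cokernelIsCokernel f)⟩, fun i W => ?_, fun i => ?_⟩
  · cases i with
    | zero => exact (subsingleton_HZ_zero_iff _ J).2 (hres W)
    | succ n => exact subsingleton_HZ_of_isFlasque _ J n
  · cases i with
    | zero => exact (isZero_HZsh_zero_iff U J).2 ((isZero_sectSupp_iff U J).2 hres)
    | succ n => exact isZero_HZsh_of_isFlasque U J n

/-- Vanishing below and local vanishing in the top degree give vanishing of the sheaf. -/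
theorem isZero_HZsh_of_locally (N : ℕ) :
    ∀ F : CohTop.Ab X,
      (∀ (V : Opens X) (i : ℕ), i < N → Subsingleton (LocCohZ.HZ F i (inf_le_left : V ⊓ U ≤ V))) →
      (∀ (V : Opens X) (ξ : LocCohZ.HZ F N (inf_le_left : V ⊓ U ≤ V)) (x : X), x ∈ V →
        ∃ (V' : Opens X) (hV : V' ≤ V), x ∈ V' ∧
          LocCohZ.resZ F N (inf_le_left : V ⊓ U ≤ V) (inf_le_left : V' ⊓ U ≤ V')
            (inf_le_inf_right U hV) hV ξ = 0) →
      IsZero ((LocCohZ.HZsh U N).obj F) := by
  induction N with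
  | zero =>
    intro F _ hloc
    refine (isZero_HZsh_zero_iff U F).2 ((isZero_sectSupp_iff U F).2 fun W => ?_)
    refine (injective_iff_map_eq_zero _).2 fun s hs => ?_
    obtain ⟨ξ, hξ⟩ := exists_toHU_eq (inf_le_left : W ⊓ U ≤ W) F 0 ((hu0 F W).symm s) (by
      refine (hu0 F _).injective (((hu0_res _ _).trans ?_).trans (map_zero _).symm)
      exact (congrArg _ ((hu0 F W).apply_symm_apply s)).trans hs)
    refine TopCat.Presheaf.section_ext F W _ _ fun x hx => ?_
    obtain ⟨V', hV, hxV, hz⟩ := hloc W ξ x hx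
    have hsV : QCohBase.res F.obj hV s = 0 := by
      have h2 := toHU_resZ (inf_le_left : W ⊓ U ≤ W) (inf_le_left : V' ⊓ U ≤ V')
        (inf_le_inf_right U hV) hV F 0 ξ
      rw [hz, map_zero, hξ] at h2
      refine ((congrArg _ ((hu0 F W).apply_symm_apply s)).symm.trans ?_)
      exact (hu0_res hV _).symm.trans ((congrArg _ h2.symm).trans (map_zero _))
    refine (TopCat.Presheaf.germ_res_apply F.obj (homOfLE hV) x hxV s).symm.trans ?_
    exact ((congrArg _ hsV).trans (map_zero _)).trans (map_zero _).symm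
  | succ N ih =>
    intro F hlow hloc
    obtain ⟨J, Q, f, g, w, hT, hJZ, hJsh⟩ := exists_shift U F
      ((isZero_sectSupp_iff_HZ U F).2 fun W => hlow W 0 (Nat.succ_pos N))
    have hQ : IsZero ((LocCohZ.HZsh U N).obj Q) := by
      refine ih Q (fun V i hi => ?_) (fun V ξ x hx => ?_)
      · haveI := hlow V (i + 1) (Nat.succ_lt_succ hi)
        exact (hzDelta_bijective _ hT (fun i => hJZ i V) i).1.subsingleton
      · obtain ⟨V', hV, hxV, hz⟩ := hloc V (hzDelta _ hT N ξ) x hx
        refine ⟨V', hV, hxV, (hzDelta_bijective _ hT (fun i => hJZ i V') N).1 ?_⟩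
        refine ((hzDelta_resZ _ hT _ _ _ N ξ).trans hz).trans (map_zero _).symm
    exact ShortComplex.Exact.isZero_of_both_zeros
      ((RDerLES.derivedLES (LocCohZ.sectSuppF U)).exact₁ _ hT N (N + 1) rfl)
      (hQ.eq_of_src _ _) ((hJsh (N + 1)).eq_of_tgt _ _)

/-- Vanishing of the sheaves gives vanishing of the groups over every open. -/
theorem subsingleton_HZ_of_isZero (n : ℕ) :
    ∀ F : CohTop.Ab X, (∀ i ≤ n, IsZero ((LocCohZ.HZsh U i).obj F)) →
      ∀ V : Opens X, Subsingleton (LocCohZ.HZ F n (inf_le_left : V ⊓ U ≤ V)) := by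
  induction n with
  | zero =>
    intro F h V
    exact (isZero_sectSupp_iff_HZ U F).1 ((isZero_HZsh_zero_iff U F).1 (h 0 le_rfl)) V
  | succ n ih =>
    intro F h V
    obtain ⟨J, Q, f, g, w, hT, hJZ, hJsh⟩ :=
      exists_shift U F ((isZero_HZsh_zero_iff U F).1 (h 0 (Nat.zero_le _)))
    have hQ : ∀ i ≤ n, IsZero ((LocCohZ.HZsh U i).obj Q) := fun i hi =>
      ShortComplex.Exact.isZero_of_both_zeros
        ((RDerLES.derivedLES (LocCohZ.sectSuppF U)).exact₃ _ hT i (i + 1) rfl)
        ((hJsh i).eq_of_src _ _) ((h (i + 1) (Nat.succ_le_succ hi)).eq_of_tgt _ _)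
    haveI := ih Q hQ V
    exact (hzDelta_bijective _ hT (fun i => hJZ i V) n).2.subsingleton

theorem isZero_HZsh_iff_subsingleton (F : CohTop.Ab X) (n : ℕ) :
    (∀ i : ℕ, i < n → IsZero ((LocCohZ.HZsh U i).obj F)) ↔
      ∀ (V : Opens X) (i : ℕ), i < n → Subsingleton (LocCohZ.HZ F i (inf_le_left : V ⊓ U ≤ V)) := by
  constructor
  · exact fun h V i hi => subsingleton_HZ_of_isZero U i F (fun k hk => h k (lt_of_le_of_lt hk hi)) V
  · intro h i hi
    refine isZero_HZsh_of_locally U i F (fun V k hk => h V k (hk.trans hi)) fun V ξ x hx => ?_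
    exact ⟨V, le_rfl, hx, by rw [(h V i hi).elim ξ 0, map_zero]⟩

end Groth.Agent.LocCohZLib
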