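import Groth.Agent.LocCohZLib.Ext
import Mathlib.Topology.Sheaves.MayerVietoris

/-!
# Exact sequences of the sheaves `ℤ_V/ℤ_W`
-/

noncomputable section

universe u

open CategoryTheory Limits TopologicalSpace Opposite CategoryTheory.Abelian

namespace Groth.Agent.LocCohZLib

variable {X : TopCat.{u}}

/-- The map of free sheaves of an inclusion. -/
abbrev fmap {W V : Opens X} (h : W ≤ V) :=
  CohCx.freeSheafMap (Opens.grothendieckTopology X) (homOfLE h)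

/-- The quotient map. -/
abbrev zπ {W V : Opens X} (h : W ≤ V) : CohCx.freeSheaf (Opens.grothendieckTopology X) V ⟶ LocCohZ.zq h :=
  cokernel.π (fmap h)

lemma fmap_fmap {A B C : Opens X} (h : A ≤ B) (h' : B ≤ C) : fmap h ≫ fmap h' = fmap (h.trans h') := by
  rw [← CohFree.freeSheafMap_comp]
  rfl

lemma zπ_zqMap {W V W' V' : Opens X} (h : W ≤ V) (h' : W' ≤ V') (hW : W' ≤ W) (hV : V' ≤ V) :
    zπ h' ≫ LocCohZ.zqMap h h' hW hV = fmap hV ≫ zπ h :=
  cokernel.π_desc _ _ _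

lemma zq_exact {W V : Opens X} (h : W ≤ V) : (LocCohZ.zqSeq h).Exact :=
  (LocCohZ.zqSeq_shortExact h).exact

theorem triple_shortExact {W V T : Opens X} (hWV : W ≤ V) (hVT : V ≤ T) :
    ∃ w : LocCohZ.zqMap (hWV.trans hVT) hWV le_rfl hVT ≫ LocCohZ.zqMap hVT (hWV.trans hVT) hWV le_rfl = 0,
      (ShortComplex.mk _ _ w).ShortExact := by
  have hid : fmap (le_refl T) = 𝟙 _ := CohFree.freeSheafMap_id _ _
  have hidW : fmap (le_refl W) = 𝟙 _ := CohFree.freeSheafMap_id _ _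
  have h2 : zπ (hWV.trans hVT) ≫ LocCohZ.zqMap hVT (hWV.trans hVT) hWV le_rfl = zπ hVT := by
    rw [zπ_zqMap, hid]
    exact Category.id_comp _
  have w : LocCohZ.zqMap (hWV.trans hVT) hWV le_rfl hVT ≫ LocCohZ.zqMap hVT (hWV.trans hVT) hWV le_rfl = 0 := by
    rw [← cancel_epi (zπ hWV), ← Category.assoc, zπ_zqMap, Category.assoc, h2, comp_zero]
    exact cokernel.condition _
  haveI : Epi (zπ hVT) := inferInstanceAs (Epi (cokernel.π _))
  haveI hepi : Epi (LocCohZ.zqMap hVT (hWV.trans hVT) hWV le_rfl) := epi_of_epi_fac h2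
  haveI hmono : Mono (LocCohZ.zqMap (hWV.trans hVT) hWV le_rfl hVT) := by
    rw [Preadditive.mono_iff_cancel_zero]
    intro A z hz
    haveI : Epi (zπ hWV) := inferInstanceAs (Epi (cokernel.π _))
    obtain ⟨A', p, hp, z', hz'⟩ := surjective_up_to_refinements_of_epi (zπ hWV) z
    have h3 : (z' ≫ fmap hVT) ≫ zπ (hWV.trans hVT) = 0 := by
      rw [Category.assoc, ← zπ_zqMap (hWV.trans hVT) hWV le_rfl hVT, ← Category.assoc, ← hz',
        Category.assoc, hz, comp_zero]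
    obtain ⟨A'', q, hq, v, hv⟩ := (zq_exact (hWV.trans hVT)).exact_up_to_refinements (z' ≫ fmap hVT) h3
    haveI : Mono (fmap hVT) := (LocCohZ.zqSeq_shortExact hVT).mono_f
    have h4 : q ≫ z' = v ≫ fmap hWV := by
      refine (cancel_mono (fmap hVT)).1 ?_
      refine (Category.assoc _ _ _).trans (hv.trans ?_)
      refine Eq.trans ?_ (Category.assoc _ _ _).symm
      exact congrArg (v ≫ ·) (fmap_fmap hWV hVT).symm
    rw [← cancel_epi p, ← cancel_epi q, comp_zero, comp_zero, hz', ← Category.assoc, h4, Category.assoc]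
    exact (congrArg (v ≫ ·) (cokernel.condition _)).trans comp_zero
  refine ⟨w, ⟨ShortComplex.exact_of_g_is_cokernel _ (CokernelCofork.IsColimit.ofπ' _ _ fun {A} φ hφ => ?_)⟩⟩
  have hV : fmap hVT ≫ zπ (hWV.trans hVT) ≫ φ = 0 := by
    rw [← Category.assoc, ← zπ_zqMap (hWV.trans hVT) hWV le_rfl hVT, Category.assoc]
    exact (congrArg (zπ hWV ≫ ·) hφ).trans comp_zero
  refine ⟨cokernel.desc _ _ hV, ?_⟩
  haveI : Epi (zπ (hWV.trans hVT)) := inferInstanceAs (Epi (cokernel.π _))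
  refine (cancel_epi (zπ (hWV.trans hVT))).1 ?_
  refine (Category.assoc _ _ _).symm.trans ?_
  refine (congrArg (· ≫ _) h2).trans ?_
  exact cokernel.π_desc _ _ _

section MV

variable (U U' : Opens X)

/-- The map `ℤ_{U∩U'} → ℤ_U` on quotients of `ℤ_X`. -/
abbrev mvA := LocCohZ.zqMap (le_top : U ≤ ⊤) (le_top : U ⊓ U' ≤ ⊤) inf_le_left le_rfl

/-- The map `ℤ_{U∩U'} → ℤ_{U'}` on quotients of `ℤ_X`. -/
abbrev mvB := LocCohZ.zqMap (le_top : U' ≤ ⊤) (le_top : U ⊓ U' ≤ ⊤) inf_le_right le_rfl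

/-- The map `ℤ_U → ℤ_{U∪U'}` on quotients of `ℤ_X`. -/
abbrev mvC := LocCohZ.zqMap (le_top : U ⊔ U' ≤ ⊤) (le_top : U ≤ ⊤) le_sup_left le_rfl

/-- The map `ℤ_{U'} → ℤ_{U∪U'}` on quotients of `ℤ_X`. -/
abbrev mvD := LocCohZ.zqMap (le_top : U ⊔ U' ≤ ⊤) (le_top : U' ≤ ⊤) le_sup_right le_rfl

lemma zπ_top_zqMap {A B : Opens X} (h : A ≤ B) :
    zπ (le_top : A ≤ ⊤) ≫ LocCohZ.zqMap (le_top : B ≤ ⊤) (le_top : A ≤ ⊤) h le_rfl =
      zπ (le_top : B ≤ ⊤) := by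
  rw [zπ_zqMap, show fmap (le_refl (⊤ : Opens X)) = 𝟙 _ from CohFree.freeSheafMap_id _ _]
  exact Category.id_comp _

lemma mv_zero : biprod.lift (mvA U U') (-mvB U U') ≫ biprod.desc (mvC U U') (mvD U U') = 0 := by
  rw [biprod.lift_desc, Preadditive.neg_comp, ← sub_eq_add_neg, sub_eq_zero]
  haveI : Epi (zπ (le_top : U ⊓ U' ≤ ⊤)) := inferInstanceAs (Epi (cokernel.π _))
  refine (cancel_epi (zπ (le_top : U ⊓ U' ≤ ⊤))).1 ?_
  rw [← Category.assoc, ← Category.assoc, zπ_top_zqMap, zπ_top_zqMap, zπ_top_zqMap, zπ_top_zqMap]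

/-- The sequence of the pair of closed complements. -/
abbrev mvSeq : ShortComplex (CohTop.Ab X) := ShortComplex.mk _ _ (mv_zero U U')

theorem mvSeq_shortExact : (mvSeq U U').ShortExact := by
  have hMV := GrothendieckTopology.MayerVietorisSquare.shortComplex_shortExact
    (Opens.mayerVietorisSquare (T := X) U U')
  haveI : Epi (zπ (le_top : U ⊓ U' ≤ ⊤)) := inferInstanceAs (Epi (cokernel.π _))
  haveI : Epi (zπ (le_top : U ⊔ U' ≤ ⊤)) := inferInstanceAs (Epi (cokernel.π _))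
  haveI hc : Epi (mvC U U') := epi_of_epi_fac (zπ_top_zqMap (le_sup_left : U ≤ U ⊔ U'))
  haveI hepi : Epi (mvSeq U U').g := by
    refine epi_of_epi_fac (f := biprod.inl) (h := mvC U U') ?_
    exact biprod.inl_desc _ _
  haveI hmono : Mono (mvSeq U U').f := by
    rw [Preadditive.mono_iff_cancel_zero]
    intro A z hz
    have hzA : z ≫ mvA U U' = 0 := by
      simpa using congrArg (· ≫ biprod.fst) hz
    have hzB : z ≫ mvB U U' = 0 := by
      simpa using congrArg (· ≫ biprod.snd) hz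
    obtain ⟨A₁, p, hp, z', hz'⟩ := surjective_up_to_refinements_of_epi (zπ (le_top : U ⊓ U' ≤ ⊤)) z
    have h1 : z' ≫ zπ (le_top : U ≤ ⊤) = 0 := by
      rw [← zπ_top_zqMap (inf_le_left : U ⊓ U' ≤ U), ← Category.assoc, ← hz', Category.assoc, hzA, comp_zero]
    have h2 : z' ≫ zπ (le_top : U' ≤ ⊤) = 0 := by
      rw [← zπ_top_zqMap (inf_le_right : U ⊓ U' ≤ U'), ← Category.assoc, ← hz', Category.assoc, hzB, comp_zero]
    obtain ⟨A₂, q, hq, w₁, hw₁⟩ : ∃ (A₂ : CohTop.Ab X) (q : A₂ ⟶ A₁) (_ : Epi q)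
        (w₁ : A₂ ⟶ CohCx.freeSheaf (Opens.grothendieckTopology X) U),
        q ≫ z' = w₁ ≫ fmap (le_top : U ≤ ⊤) :=
      (zq_exact (le_top : U ≤ ⊤)).exact_up_to_refinements z' h1
    obtain ⟨A₃, r, hr, w₂, hw₂⟩ : ∃ (A₃ : CohTop.Ab X) (r : A₃ ⟶ A₂) (_ : Epi r)
        (w₂ : A₃ ⟶ CohCx.freeSheaf (Opens.grothendieckTopology X) U'),
        r ≫ q ≫ z' = w₂ ≫ fmap (le_top : U' ≤ ⊤) :=
      (zq_exact (le_top : U' ≤ ⊤)).exact_up_to_refinements (q ≫ z')
        ((Category.assoc _ _ _).trans ((congrArg (q ≫ ·) h2).trans comp_zero))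
    haveI : Mono (fmap (le_top : U ⊔ U' ≤ ⊤)) := (LocCohZ.zqSeq_shortExact _).mono_f
    obtain ⟨A₄, s, hs, v, hv⟩ : ∃ (A₄ : CohTop.Ab X) (s : A₄ ⟶ A₃) (_ : Epi s)
        (v : A₄ ⟶ CohCx.freeSheaf (Opens.grothendieckTopology X) (U ⊓ U')),
        s ≫ biprod.lift (r ≫ w₁) (-w₂) =
          v ≫ biprod.lift (fmap (inf_le_left : U ⊓ U' ≤ U)) (-fmap (inf_le_right : U ⊓ U' ≤ U')) :=
      hMV.exact.exact_up_to_refinements (biprod.lift (r ≫ w₁) (-w₂)) (by
        refine Eq.trans biprod.lift_desc ?_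
        change (r ≫ w₁) ≫ fmap (le_sup_left : U ≤ U ⊔ U') + (-w₂) ≫ fmap (le_sup_right : U' ≤ U ⊔ U') = 0
        refine (cancel_mono (fmap (le_top : U ⊔ U' ≤ ⊤))).1 ?_
        rw [Preadditive.add_comp, Preadditive.neg_comp, Preadditive.neg_comp, Category.assoc,
          Category.assoc, Category.assoc, fmap_fmap, fmap_fmap, zero_comp, ← hw₁, ← hw₂, add_neg_cancel])
    have h3 : s ≫ r ≫ w₁ = v ≫ fmap (inf_le_left : U ⊓ U' ≤ U) := by
      have := congrArg (· ≫ biprod.fst) hv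
      refine Eq.trans ?_ (this.trans ?_)
      · exact ((Category.assoc _ _ _).trans (congrArg (s ≫ ·) (biprod.lift_fst _ _))).symm
      · exact (Category.assoc _ _ _).trans (congrArg (v ≫ ·) (biprod.lift_fst _ _))
    rw [← cancel_epi p, ← cancel_epi q, ← cancel_epi r, ← cancel_epi s, hz']
    simp only [comp_zero]
    calc s ≫ r ≫ q ≫ z' ≫ zπ (le_top : U ⊓ U' ≤ ⊤)
        = s ≫ r ≫ (q ≫ z') ≫ zπ (le_top : U ⊓ U' ≤ ⊤) := by rw [Category.assoc q z']
      _ = s ≫ r ≫ (w₁ ≫ fmap (le_top : U ≤ ⊤)) ≫ zπ (le_top : U ⊓ U' ≤ ⊤) := by rw [hw₁]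
      _ = (s ≫ r ≫ w₁) ≫ fmap (le_top : U ≤ ⊤) ≫ zπ (le_top : U ⊓ U' ≤ ⊤) := by
          simp only [Category.assoc]
      _ = 0 := by
          refine (congrArg (· ≫ _) h3).trans ?_
          refine (Category.assoc _ _ _).trans ?_
          refine (congrArg (v ≫ ·) ?_).trans comp_zero
          refine (Category.assoc _ _ _).symm.trans ?_
          rw [fmap_fmap]
          exact cokernel.condition _
  refine ⟨ShortComplex.exact_of_g_is_cokernel _ (CokernelCofork.IsColimit.ofπ' _ _ fun {A} φ hφ => ?_)⟩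
  have hpq : mvA U U' ≫ biprod.inl ≫ φ = mvB U U' ≫ biprod.inr ≫ φ := by
    rw [← sub_eq_zero, ← hφ]
    change _ = biprod.lift _ _ ≫ φ
    rw [biprod.lift_eq, Preadditive.add_comp, Category.assoc, Category.assoc, Preadditive.neg_comp,
      sub_eq_add_neg]
  let x := zπ (le_top : U ≤ ⊤) ≫ biprod.inl ≫ φ
  have hy : zπ (le_top : U' ≤ ⊤) ≫ biprod.inr ≫ φ = x := by
    have := congrArg (zπ (le_top : U ⊓ U' ≤ ⊤) ≫ ·) hpq
    simp only [← Category.assoc, zπ_top_zqMap] at this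
    simpa [x] using this.symm
  have hx : fmap (le_top : U ⊔ U' ≤ ⊤) ≫ x = 0 := by
    haveI : Epi (biprod.desc (fmap (le_sup_left : U ≤ U ⊔ U')) (fmap (le_sup_right : U' ≤ U ⊔ U'))) :=
      hMV.epi_g
    refine (cancel_epi (biprod.desc (fmap (le_sup_left : U ≤ U ⊔ U')) (fmap (le_sup_right : U' ≤ U ⊔ U')))).1 ?_
    refine biprod.hom_ext' _ _ ?_ ?_
    · rw [biprod.inl_desc_assoc, reassoc_of% fmap_fmap, comp_zero, comp_zero]
      exact (Category.assoc _ _ _).symm.trans ((congrArg (· ≫ _) (cokernel.condition _)).trans zero_comp)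
    · rw [biprod.inr_desc_assoc, reassoc_of% fmap_fmap, comp_zero, comp_zero, ← hy]
      exact (Category.assoc _ _ _).symm.trans ((congrArg (· ≫ _) (cokernel.condition _)).trans zero_comp)
  refine ⟨cokernel.desc _ x hx, ?_⟩
  haveI : Epi (zπ (le_top : U ≤ ⊤)) := inferInstanceAs (Epi (cokernel.π _))
  haveI : Epi (zπ (le_top : U' ≤ ⊤)) := inferInstanceAs (Epi (cokernel.π _))
  refine biprod.hom_ext' _ _ ?_ ?_
  · refine (biprod.inl_desc_assoc _ _ _).trans ?_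
    refine (cancel_epi (zπ (le_top : U ≤ ⊤))).1 ?_
    rw [← Category.assoc, zπ_top_zqMap]
    exact cokernel.π_desc _ _ _
  · refine (biprod.inr_desc_assoc _ _ _).trans ?_
    refine (cancel_epi (zπ (le_top : U' ≤ ⊤))).1 ?_
    rw [← Category.assoc, zπ_top_zqMap]
    exact (cokernel.π_desc _ _ _).trans hy.symm

lemma comp_sub' {P Q : CohTop.Ab X} {F : CohTop.Ab X} {n : ℕ} (f : P ⟶ Q) (a b : Ext Q F n) :
    (Ext.mk₀ f).comp (a - b) (zero_add n) =
      (Ext.mk₀ f).comp a (zero_add n) - (Ext.mk₀ f).comp b (zero_add n) :=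
  map_sub ((Ext.mk₀ f).precomp F (zero_add n)) a b

lemma ext_biprod {P Q : CohTop.Ab X} {F : CohTop.Ab X} {n : ℕ} (x : Ext (P ⊞ Q) F n)
    (h1 : (Ext.mk₀ (biprod.inl : P ⟶ P ⊞ Q)).comp x (zero_add n) = 0)
    (h2 : (Ext.mk₀ (biprod.inr : Q ⟶ P ⊞ Q)).comp x (zero_add n) = 0) : x = 0 := by
  rw [← Ext.mk₀_id_comp x, ← biprod.total, Ext.mk₀_add, Ext.add_comp,
    ← Ext.mk₀_comp_mk₀_assoc, ← Ext.mk₀_comp_mk₀_assoc, h1, h2, Ext.comp_zero, Ext.comp_zero, add_zero]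

theorem mayer_vietoris (F : CohTop.Ab X) :
    Function.Injective (fun x : LocCohZ.HZc F 0 (U ⊔ U') =>
      (LocCohZ.resZ F 0 (le_top : U ⊔ U' ≤ ⊤) (le_top : U ≤ ⊤) le_sup_left le_rfl x,
       LocCohZ.resZ F 0 (le_top : U ⊔ U' ≤ ⊤) (le_top : U' ≤ ⊤) le_sup_right le_rfl x)) ∧
    ∃ δ : ∀ i : ℕ, LocCohZ.HZc F i (U ⊓ U') →+ LocCohZ.HZc F (i + 1) (U ⊔ U'),
      ∀ i : ℕ,
        (∀ y : LocCohZ.HZc F i U × LocCohZ.HZc F i U',
          LocCohZ.resZ F i (le_top : U ≤ ⊤) (le_top : U ⊓ U' ≤ ⊤) inf_le_left le_rfl y.1 -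
              LocCohZ.resZ F i (le_top : U' ≤ ⊤) (le_top : U ⊓ U' ≤ ⊤) inf_le_right le_rfl y.2 = 0 ↔
            ∃ x : LocCohZ.HZc F i (U ⊔ U'),
              LocCohZ.resZ F i (le_top : U ⊔ U' ≤ ⊤) (le_top : U ≤ ⊤) le_sup_left le_rfl x = y.1 ∧
              LocCohZ.resZ F i (le_top : U ⊔ U' ≤ ⊤) (le_top : U' ≤ ⊤) le_sup_right le_rfl x = y.2) ∧
        (∀ w : LocCohZ.HZc F i (U ⊓ U'),
          δ i w = 0 ↔ ∃ y : LocCohZ.HZc F i U × LocCohZ.HZc F i U',
            LocCohZ.resZ F i (le_top : U ≤ ⊤) (le_top : U ⊓ U' ≤ ⊤) inf_le_left le_rfl y.1 -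
              LocCohZ.resZ F i (le_top : U' ≤ ⊤) (le_top : U ⊓ U' ≤ ⊤) inf_le_right le_rfl y.2 = w) ∧
        (∀ x : LocCohZ.HZc F (i + 1) (U ⊔ U'),
          (LocCohZ.resZ F (i + 1) (le_top : U ⊔ U' ≤ ⊤) (le_top : U ≤ ⊤) le_sup_left le_rfl x = 0 ∧
            LocCohZ.resZ F (i + 1) (le_top : U ⊔ U' ≤ ⊤) (le_top : U' ≤ ⊤) le_sup_right le_rfl x = 0) ↔
            ∃ w : LocCohZ.HZc F i (U ⊓ U'), δ i w = x) := by
  have hS := mvSeq_shortExact U U'
  let pair : ∀ {n : ℕ}, LocCohZ.HZc F n U → LocCohZ.HZc F n U' →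
      Ext (mvSeq U U').X₂ F n := fun {n} a b =>
    (Ext.mk₀ biprod.fst).comp a (zero_add n) + (Ext.mk₀ biprod.snd).comp b (zero_add n)
  have hf : ∀ {n : ℕ} (a : LocCohZ.HZc F n U) (b : LocCohZ.HZc F n U'),
      (Ext.mk₀ (mvSeq U U').f).comp (pair a b) (zero_add n) =
        (Ext.mk₀ (mvA U U')).comp a (zero_add n) - (Ext.mk₀ (mvB U U')).comp b (zero_add n) := by
    intro n a b
    simp only [pair, Ext.comp_add, Ext.mk₀_comp_mk₀_assoc]
    erw [biprod.lift_fst, biprod.lift_snd]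
    rw [Ext.mk₀_neg, Ext.neg_comp, sub_eq_add_neg]
  have hl : ∀ {n : ℕ} (x : Ext (mvSeq U U').X₃ F n),
      (Ext.mk₀ biprod.inl).comp ((Ext.mk₀ (mvSeq U U').g).comp x (zero_add n)) (zero_add n) =
        (Ext.mk₀ (mvC U U')).comp x (zero_add n) := fun x => by
    rw [Ext.mk₀_comp_mk₀_assoc]
    erw [biprod.inl_desc]
  have hr : ∀ {n : ℕ} (x : Ext (mvSeq U U').X₃ F n),
      (Ext.mk₀ biprod.inr).comp ((Ext.mk₀ (mvSeq U U').g).comp x (zero_add n)) (zero_add n) =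
        (Ext.mk₀ (mvD U U')).comp x (zero_add n) := fun x => by
    rw [Ext.mk₀_comp_mk₀_assoc]
    erw [biprod.inr_desc]
  have hpl : ∀ {n : ℕ} (a : LocCohZ.HZc F n U) (b : LocCohZ.HZc F n U'),
      (Ext.mk₀ biprod.inl).comp (pair a b) (zero_add n) = a := fun a b => by
    simp only [pair, Ext.comp_add, Ext.mk₀_comp_mk₀_assoc, biprod.inl_fst, biprod.inl_snd,
      Ext.mk₀_id_comp, Ext.mk₀_zero, Ext.zero_comp, add_zero]
  have hpr : ∀ {n : ℕ} (a : LocCohZ.HZc F n U) (b : LocCohZ.HZc F n U'),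
      (Ext.mk₀ biprod.inr).comp (pair a b) (zero_add n) = b := fun a b => by
    simp only [pair, Ext.comp_add, Ext.mk₀_comp_mk₀_assoc, biprod.inr_fst, biprod.inr_snd,
      Ext.mk₀_id_comp, Ext.mk₀_zero, Ext.zero_comp, zero_add]
  have hpair : ∀ {n : ℕ} (x : Ext (mvSeq U U').X₂ F n),
      pair ((Ext.mk₀ biprod.inl).comp x (zero_add n)) ((Ext.mk₀ biprod.inr).comp x (zero_add n)) = x := by
    intro n x
    refine sub_eq_zero.1 (ext_biprod _ ?_ ?_)
    · rw [comp_sub', hpl, sub_self]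
    · rw [comp_sub', hpr, sub_self]
  refine ⟨fun x y hxy => ?_, fun i => hS.extClass.precomp F (by omega : 1 + i = i + 1),
    fun i => ⟨fun y => ?_, fun w => ?_, fun x => ?_⟩⟩
  · refine sub_eq_zero.1 ?_
    obtain ⟨e1, e2⟩ := Prod.ext_iff.1 hxy
    have h0 : (Ext.mk₀ (mvSeq U U').g).comp (x - y) (zero_add 0) = 0 := by
      refine ext_biprod _ ?_ ?_
      · rw [hl, comp_sub']; exact sub_eq_zero.2 e1
      · rw [hr, comp_sub']; exact sub_eq_zero.2 e2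
    obtain ⟨a, ha⟩ := Ext.addEquiv₀.symm.surjective (x - y)
    rw [← ha] at h0 ⊢
    change (Ext.mk₀ (mvSeq U U').g).comp (Ext.mk₀ a) (zero_add 0) = 0 at h0
    rw [Ext.mk₀_comp_mk₀, Ext.mk₀_eq_zero_iff] at h0
    haveI := hS.epi_g
    rw [(cancel_epi (mvSeq U U').g).1 (h0.trans comp_zero.symm), map_zero]
  · constructor
    · intro hy
      obtain ⟨x, hx⟩ := Ext.contravariant_sequence_exact₂ hS F (pair y.1 y.2) ((hf y.1 y.2).trans hy)
      exact ⟨x, ((hl x).symm.trans ((congrArg (fun e => (Ext.mk₀ biprod.inl).comp e (zero_add i)) hx).trans (hpl y.1 y.2))),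
        ((hr x).symm.trans ((congrArg (fun e => (Ext.mk₀ biprod.inr).comp e (zero_add i)) hx).trans (hpr y.1 y.2)))⟩
    · rintro ⟨x, h1, h2⟩
      have hx : (Ext.mk₀ (mvSeq U U').g).comp x (zero_add i) = pair y.1 y.2 := by
        refine sub_eq_zero.1 (ext_biprod _ ?_ ?_)
        · rw [comp_sub', hl, hpl]; exact sub_eq_zero.2 h1
        · rw [comp_sub', hr, hpr]; exact sub_eq_zero.2 h2
      refine (hf y.1 y.2).symm.trans ?_
      rw [← hx, Ext.mk₀_comp_mk₀_assoc, (mvSeq U U').zero, Ext.mk₀_zero, Ext.zero_comp]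
  · constructor
    · intro hw
      obtain ⟨z, hz⟩ := Ext.contravariant_sequence_exact₁ hS F w (by omega) hw
      refine ⟨((Ext.mk₀ biprod.inl).comp z (zero_add i), (Ext.mk₀ biprod.inr).comp z (zero_add i)), ?_⟩
      exact ((hf _ _).symm.trans (congrArg (fun e => (Ext.mk₀ (mvSeq U U').f).comp e (zero_add i)) (hpair z))).trans hz
    · rintro ⟨y, rfl⟩
      refine (congrArg (fun e => hS.extClass.comp e (by omega : 1 + i = i + 1)) (hf y.1 y.2).symm).trans ?_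
      exact hS.extClass_comp_assoc _
  · constructor
    · rintro ⟨h1, h2⟩
      exact Ext.contravariant_sequence_exact₃ hS F x
        (ext_biprod _ ((hl x).trans h1) ((hr x).trans h2)) (by omega)
    · rintro ⟨w, rfl⟩
      have h0 : (Ext.mk₀ (mvSeq U U').g).comp (hS.extClass.comp w (by omega : 1 + i = i + 1))
          (zero_add (i + 1)) = 0 := hS.comp_extClass_assoc _ (by omega)
      exact ⟨(hl _).symm.trans ((congrArg (fun e => (Ext.mk₀ biprod.inl).comp e (zero_add (i + 1))) h0).trans (Ext.comp_zero _ _ _ _ _)),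
        (hr _).symm.trans ((congrArg (fun e => (Ext.mk₀ biprod.inr).comp e (zero_add (i + 1))) h0).trans (Ext.comp_zero _ _ _ _ _))⟩

end MV

end Groth.Agent.LocCohZLib
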